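import Groth.Agent.KoszChiLib.Chi

/-!
# Vanishing, positivity and multiplicativity of the Koszul Euler characteristic
-/

set_option autoImplicit false
universe u

open CategoryTheory IsLocalRing Function
open scoped TensorProduct

namespace Groth.Agent.KoszChiLib

noncomputable section

variable {A : Type u} [CommRing A] [IsLocalRing A] [IsNoetherianRing A]

theorem fl_of_finLen {l : List A} {M : Type u} [AddCommGroup M] [Module A M] [Module.Finite A M] {I : Ideal A}
    (hI : I = Idl l) (h : IsFiniteLength A (M ⧸ (I • (⊤ : Submodule A M)))) : FL l (ModuleCat.of A M) := by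
  subst hI
  obtain ⟨k, hk⟩ := InjHullLib.exists_pow_smul_eq_zero h
  show maximalIdeal A ≤ _
  rw [Ideal.radical_eq_sInf]
  refine le_sInf fun Q ⟨hQ, hQp⟩ => hQp.le_of_pow_le (n := k) fun a ha => ?_
  have hmem : (⟨Q, hQp⟩ : PrimeSpectrum A) ∈ Module.support A (M ⧸ (Idl l • ⊤ : Submodule A M)) := by
    rw [Module.support_quotient]
    exact ⟨Module.mem_support_iff_of_finite.mpr (le_sup_right.trans hQ),
      (PrimeSpectrum.mem_zeroLocus _ _).mpr (SetLike.coe_subset_coe.2 (le_sup_left.trans hQ))⟩
  exact Module.annihilator_le_of_mem_support hmem (Module.mem_annihilator.2 fun y => hk a ha y)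

theorem Idl_ofFn {k : ℕ} (x : Fin k → A) : Idl (List.ofFn x) = Ideal.span (Set.range x) := by
  rw [Idl]
  congr 1
  ext a
  simp [List.mem_ofFn]

theorem chi_pows : ∀ (k : ℕ) (x : Fin k → A) (m : Fin k → ℕ) (M : ModuleCat.{u} A) [Module.Finite A M],
    FL (List.ofFn x) M →
    chi (List.ofFn fun j => x j ^ m j) M = (∏ j, (m j : ℤ)) * chi (List.ofFn x) M := by
  intro k
  induction k with
  | zero => intro x m M _ _; simp
  | succ k ih =>
    intro x m M _ hM
    have hFL : FL ((x 0 ^ m 0) :: List.ofFn (fun j => x (Fin.succ j) ^ m (Fin.succ j))) M := by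
      refine hM.mono ?_
      rw [Idl_cons, Idl_ofFn, Idl_ofFn]
      refine sup_le (Ideal.span_le.2 ?_) (le_sup_right.trans Ideal.le_radical)
      rintro _ ⟨j, rfl⟩
      refine ⟨m j, Submodule.mem_sup_left ?_⟩
      cases j using Fin.cases with
      | zero => exact Submodule.mem_sup_left (Ideal.mem_span_singleton_self _)
      | succ j => exact Submodule.mem_sup_right (Ideal.subset_span ⟨j, rfl⟩)
    have hFL' : FL ((x 0) :: List.ofFn (fun j => x (Fin.succ j))) M := by rwa [← List.ofFn_succ]
    have hFL'' : FL ((x 0 ^ m 0) :: List.ofFn (fun j => x (Fin.succ j))) M := by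
      refine hFL'.mono ?_
      rw [Idl_cons, Idl_cons, sup_assoc, sup_assoc]
      refine sup_le ((Ideal.span_singleton_le_iff_mem _).2 ⟨m 0, ?_⟩) (le_sup_right.trans Ideal.le_radical)
      exact Submodule.mem_sup_left (Ideal.mem_span_singleton_self _)
    set φ : M →ₗ[A] M := (x 0 ^ m 0) • LinearMap.id with hφ
    have hS : FL (List.ofFn fun j => x (Fin.succ j)) (ModuleCat.of A (LinearMap.ker φ)) := hFL''.of_killed
      (fun a ha => Module.mem_annihilator.2 fun y => Subtype.ext (Module.mem_annihilator.1 ha y.1))
      (Module.mem_annihilator.2 fun y => Subtype.ext y.2)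
    have hQ : FL (List.ofFn fun j => x (Fin.succ j)) (ModuleCat.of A (M ⧸ LinearMap.range φ)) := hFL''.of_killed
      (fun a ha => Module.mem_annihilator.2 fun y => by
        obtain ⟨y, rfl⟩ := Submodule.Quotient.mk_surjective _ y
        exact (congrArg Submodule.Quotient.mk (Module.mem_annihilator.1 ha y)).trans rfl)
      (Module.mem_annihilator.2 fun y => by
        obtain ⟨y, rfl⟩ := Submodule.Quotient.mk_surjective _ y
        exact (Submodule.Quotient.mk_eq_zero _).2 ⟨y, rfl⟩)
    rw [List.ofFn_succ, List.ofFn_succ, chi_cons' _ _ M hFL, ih _ _ _ hS, ih _ _ _ hQ, ← mul_sub,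
      ← chi_cons' _ _ M hFL'', chi_pow _ _ M hFL', Fin.prod_univ_succ]
    ring

/-! ### dimension -/

theorem le_of_succ_le {a : WithBot ℕ∞} {n : ℕ} (h : a + 1 ≤ ((n + 1 : ℕ) : WithBot ℕ∞)) : a ≤ (n : WithBot ℕ∞) := by
  induction a with
  | bot => exact bot_le
  | coe a =>
    have h' : a + 1 ≤ ((n + 1 : ℕ) : ℕ∞) := WithBot.coe_le_coe.1 h
    cases a using ENat.recTopCoe with
    | top => simp at h'
    | coe b =>
      have h'' : b + 1 ≤ n + 1 := by exact_mod_cast h'
      exact WithBot.coe_le_coe.2 (by exact_mod_cast (by omega : b ≤ n))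

theorem eq_of_succ_eq {a : WithBot ℕ∞} {n : ℕ} (h : a + 1 = ((n + 1 : ℕ) : WithBot ℕ∞)) : a = (n : WithBot ℕ∞) := by
  induction a with
  | bot =>
    rw [WithBot.bot_add] at h
    exact absurd h WithBot.bot_ne_coe
  | coe a =>
    have h' : a + 1 = ((n + 1 : ℕ) : ℕ∞) := WithBot.coe_injective h
    cases a using ENat.recTopCoe with
    | top => exact absurd (h'.symm.trans (top_add (1 : ℕ∞))) (ENat.natCast_ne_top _)
    | coe b =>
      have h'' : b + 1 = n + 1 := by exact_mod_cast h'
      obtain rfl : b = n := by omega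
      rfl

theorem FL.of_quot {x : A} {l : List A} {M : ModuleCat.{u} A} (hM : FL (x :: l) M) :
    FL l (ModuleCat.of A (M ⧸ LinearMap.range (x • LinearMap.id : M →ₗ[A] M))) :=
  hM.of_killed
    (fun a ha => Module.mem_annihilator.2 fun y => by
      obtain ⟨y, rfl⟩ := Submodule.Quotient.mk_surjective _ y
      exact (congrArg Submodule.Quotient.mk (Module.mem_annihilator.1 ha y)).trans rfl)
    (Module.mem_annihilator.2 fun y => by
      obtain ⟨y, rfl⟩ := Submodule.Quotient.mk_surjective _ y
      exact (Submodule.Quotient.mk_eq_zero _).2 ⟨y, rfl⟩)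

/-- `M/xM` -/
def quotEquiv (x : A) (M : Type u) [AddCommGroup M] [Module A M] :
    (M ⧸ LinearMap.range (x • LinearMap.id : M →ₗ[A] M)) ≃ₗ[A] QuotSMulTop x M :=
  Submodule.quotEquivOfEq _ _ (by
    ext y
    rw [Submodule.mem_smul_pointwise_iff_exists]
    simp [LinearMap.mem_range])

theorem supportDim_le_length : ∀ (l : List A), (∀ a ∈ l, a ∈ maximalIdeal A) → ∀ (M : ModuleCat.{u} A)
    [Module.Finite A M], FL l M → Module.supportDim A M ≤ (l.length : WithBot ℕ∞)
  | [], _, M, _, hM => by
    refine iSup_le fun s => ?_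
    have hx : ∀ i, (s i).1.asIdeal = maximalIdeal A := fun i => by
      refine le_antisymm (le_maximalIdeal (s i).1.2.ne_top) (hM.trans ?_)
      rw [show Idl ([] : List A) = ⊥ by simp [Idl], bot_sup_eq]
      exact (s i).1.2.radical_le_iff.2 (Module.annihilator_le_of_mem_support (s i).2)
    have hl : s.length = 0 := Nat.eq_zero_of_not_pos fun hpos =>
      (s.step ⟨0, hpos⟩).ne (Subtype.ext (PrimeSpectrum.ext ((hx _).trans (hx _).symm)))
    rw [hl]
    simp
  | x :: l, hl, M, _, hM => by
    have hx : x ∈ maximalIdeal A := hl x (by simp)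
    have h1 := supportDim_le_length l (fun a ha => hl a (by simp [ha]))
      (ModuleCat.of A (M ⧸ LinearMap.range (x • LinearMap.id : M →ₗ[A] M))) hM.of_quot
    rw [show Module.supportDim A (ModuleCat.of A (M ⧸ LinearMap.range (x • LinearMap.id : M →ₗ[A] M))) =
      Module.supportDim A (QuotSMulTop x M) from Module.supportDim_eq_of_equiv (quotEquiv x M)] at h1
    calc Module.supportDim A M ≤ Module.supportDim A (QuotSMulTop x M) + 1 :=
          Module.supportDim_le_supportDim_quotSMulTop_succ hx
      _ ≤ (l.length : WithBot ℕ∞) + 1 := by gcongr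
      _ = _ := by simp

theorem supportDim_exact {M N P : Type u} [AddCommGroup M] [Module A M] [AddCommGroup N] [Module A N]
    [AddCommGroup P] [Module A P] {f : M →ₗ[A] N} {g : N →ₗ[A] P} (h : Exact f g) (hf : Injective f)
    (hg : Surjective g) :
    Module.supportDim A N = max (Module.supportDim A M) (Module.supportDim A P) := by
  refine le_antisymm (iSup_le fun s => ?_)
    (max_le (Module.supportDim_le_of_injective f hf) (Module.supportDim_le_of_surjective g hg))
  have hmem := s.head.2
  simp only [Module.support_of_exact h hf hg, Set.mem_union] at hmem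
  rcases hmem with hm | hm
  · refine le_max_of_le_left ?_
    exact le_trans (le_of_eq rfl) (Order.LTSeries.length_le_krullDim (LTSeries.mk s.length
      (fun i => (⟨(s i).1, Module.mem_support_mono (s.monotone (Fin.zero_le i)) hm⟩ : Module.support A M))
      (fun a b hab => s.strictMono hab)))
  · refine le_max_of_le_right ?_
    exact le_trans (le_of_eq rfl) (Order.LTSeries.length_le_krullDim (LTSeries.mk s.length
      (fun i => (⟨(s i).1, Module.mem_support_mono (s.monotone (Fin.zero_le i)) hm⟩ : Module.support A P))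
      (fun a b hab => s.strictMono hab)))

theorem ann_le_of_surjective {N P : Type u} [AddCommGroup N] [Module A N] [AddCommGroup P] [Module A P]
    (g : N →ₗ[A] P) (hg : Surjective g) : Module.annihilator A N ≤ Module.annihilator A P :=
  g.annihilator_le_of_surjective hg

theorem chi_add' (l : List A) {M N P : Type u} [AddCommGroup M] [Module A M] [AddCommGroup N] [Module A N]
    [AddCommGroup P] [Module A P] [Module.Finite A M] [Module.Finite A N] [Module.Finite A P]
    {f : M →ₗ[A] N} {g : N →ₗ[A] P} (h : Exact f g) (hf : Injective f) (hg : Surjective g)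
    (hN : FL l (ModuleCat.of A N)) :
    FL l (ModuleCat.of A M) ∧ FL l (ModuleCat.of A P) ∧
      chi l (ModuleCat.of A N) = chi l (ModuleCat.of A M) + chi l (ModuleCat.of A P) := by
  have hM : FL l (ModuleCat.of A M) := hN.of_ann (f.annihilator_le_of_injective hf)
  have hP : FL l (ModuleCat.of A P) := hN.of_ann (g.annihilator_le_of_surjective hg)
  exact ⟨hM, hP, chi_add l (ModuleCat.ofHom f) (ModuleCat.ofHom g)
    (ModuleCat.hom_ext (LinearMap.ext fun y => h.apply_apply_eq_zero y))
    { exact := (CategoryTheory.ShortComplex.ShortExact.moduleCat_exact_iff_function_exact _).2 h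
      mono_f := (ModuleCat.mono_iff_injective _).2 hf
      epi_g := (ModuleCat.epi_iff_surjective _).2 hg } hM hN hP⟩

/-- what `χ` does on `A/P` -/
theorem chi_prime {x : A} {l : List A} (hx : x ∈ maximalIdeal A) {D : Type u} [AddCommGroup D] [Module A D]
    [Module.Finite A D] {P : Ideal A} [P.IsPrime] (e : D ≃ₗ[A] A ⧸ P) (hD : FL (x :: l) (ModuleCat.of A D)) :
    (x ∈ P ∧ FL l (ModuleCat.of A D) ∧ chi (x :: l) (ModuleCat.of A D) = 0) ∨
      (∃ Q : ModuleCat.{u} A, Module.Finite A Q ∧ FL l Q ∧ Module.supportDim A Q + 1 = Module.supportDim A D ∧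
        chi (x :: l) (ModuleCat.of A D) = chi l Q) := by
  by_cases hxP : x ∈ P
  · left
    have hxA : x ∈ Module.annihilator A D := by
      rw [e.annihilator_eq, Ideal.annihilator_quotient]
      exact hxP
    have hD' : FL l (ModuleCat.of A D) := hD.of_killed le_rfl hxA
    refine ⟨hxP, hD', ?_⟩
    rw [(chi_cons x l _ hD).2]
    exact finsum_eq_zero_of_forall_eq_zero fun i => by rw [ind_self_of_finLen _ (H_finLen l _ hD' i), mul_zero]
  · right
    have hreg : IsSMulRegular D x := by
      intro a b hab
      apply e.injective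
      have h1 : x • e a = x • e b := by rw [← map_smul, ← map_smul]; exact congrArg e hab
      rw [Algebra.smul_def, Algebra.smul_def] at h1
      exact mul_left_cancel₀ (fun h => hxP (Ideal.Quotient.eq_zero_iff_mem.1 h)) h1
    haveI : Subsingleton (LinearMap.ker (x • LinearMap.id : D →ₗ[A] D)) := by
      refine subsingleton_of_forall_eq 0 fun y => Subtype.ext (hreg ?_)
      show x • y.1 = x • (0 : D)
      rw [smul_zero]
      exact y.2
    refine ⟨ModuleCat.of A (D ⧸ LinearMap.range (x • LinearMap.id : D →ₗ[A] D)),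
      inferInstanceAs (Module.Finite A (D ⧸ LinearMap.range (x • LinearMap.id : D →ₗ[A] D))), hD.of_quot, ?_, ?_⟩
    · rw [show Module.supportDim A (ModuleCat.of A (D ⧸ LinearMap.range (x • LinearMap.id : D →ₗ[A] D))) =
        Module.supportDim A (QuotSMulTop x D) from Module.supportDim_eq_of_equiv (quotEquiv x D)]
      exact Module.supportDim_quotSMulTop_succ_eq_supportDim hreg hx
    · rw [chi_cons' x l _ hD]
      haveI : Subsingleton (ModuleCat.of A (LinearMap.ker (x • LinearMap.id : D →ₗ[A] D))) := ‹_›
      rw [chi_of_subsingleton l (ModuleCat.of A (LinearMap.ker (x • LinearMap.id : D →ₗ[A] D))), sub_zero]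

/-- Serre: vanishing and positivity -/
theorem chi_serre : ∀ (l : List A), (∀ a ∈ l, a ∈ maximalIdeal A) → ∀ (M : ModuleCat.{u} A) [Module.Finite A M],
    FL l M → (Module.supportDim A M < (l.length : WithBot ℕ∞) → chi l M = 0) ∧ 0 ≤ chi l M ∧
      (Module.supportDim A M = (l.length : WithBot ℕ∞) → 0 < chi l M) := by
  intro l
  induction l with
  | nil =>
    intro _ M _ hM
    rw [chi_nil]
    have hf : IsFiniteLength A M := finLen_of_equiv (H_nil M) (H_finLen [] M hM 0)
    refine ⟨fun h => ?_, ell_nonneg, fun h => ?_⟩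
    · haveI : Subsingleton M := by
        by_contra hne
        rw [not_subsingleton_iff_nontrivial] at hne
        obtain ⟨e, he⟩ := WithBot.ne_bot_iff_exists.1 (Module.supportDim_ne_bot_of_nontrivial A M)
        rw [← he, List.length_nil, Nat.cast_zero] at h
        exact not_lt_bot (lt_of_lt_of_le (WithBot.coe_lt_coe.1 h) le_rfl)
      exact ell_eq_zero_of_subsingleton
    · have hne : Module.length A M ≠ 0 := by
        intro h0
        haveI : Subsingleton M := Module.length_eq_zero_iff.1 h0
        rw [Module.supportDim_eq_bot_of_subsingleton, List.length_nil] at h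
        exact WithBot.bot_ne_coe h
      rw [ell]
      have h2 : (Module.length A M).toNat ≠ 0 := by
        rw [Ne, ENat.toNat_eq_zero]
        push Not
        exact ⟨hne, finLen_iff.1 hf⟩
      omega
  | cons x l ih =>
    intro hl M hfin hM
    have hx : x ∈ maximalIdeal A := hl x (by simp)
    have hl' : ∀ a ∈ l, a ∈ maximalIdeal A := fun a ha => hl a (by simp [ha])
    refine IsNoetherianRing.induction_on_isQuotientEquivQuotientPrime A (M := M) hfin
      (motive := fun N => FL (x :: l) (ModuleCat.of A N) →
        (Module.supportDim A N < ((x :: l).length : WithBot ℕ∞) → chi (x :: l) (ModuleCat.of A N) = 0) ∧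
          0 ≤ chi (x :: l) (ModuleCat.of A N) ∧
          (Module.supportDim A N = ((x :: l).length : WithBot ℕ∞) → 0 < chi (x :: l) (ModuleCat.of A N)))
      ?_ ?_ ?_ hM
    · intro N _ _ _ _ _
      haveI : Subsingleton (ModuleCat.of A N) := ‹_›
      have h0 := chi_of_subsingleton (x :: l) (ModuleCat.of A N)
      refine ⟨fun _ => h0, h0.ge, fun h => ?_⟩
      rw [Module.supportDim_eq_bot_of_subsingleton] at h
      exact absurd h (WithBot.bot_ne_coe)
    · intro D _ _ _ p e hD
      rcases chi_prime hx e hD with ⟨-, hD', h0⟩ | ⟨Q, hQf, hQ, hdim, hchi⟩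
      · refine ⟨fun _ => h0, h0.ge, fun h => ?_⟩
        have h1 := supportDim_le_length l hl' (ModuleCat.of A D) hD'
        rw [show Module.supportDim A (ModuleCat.of A D) = Module.supportDim A D from rfl, h, List.length_cons] at h1
        have : l.length + 1 ≤ l.length := by exact_mod_cast h1
        omega
      · obtain ⟨a1, a2, a3⟩ := ih hl' Q hQ
        rw [hchi]
        refine ⟨fun h => a1 ?_, a2, fun h => a3 ?_⟩
        · refine lt_of_le_of_ne (supportDim_le_length l hl' Q hQ) fun he => ?_
          rw [← hdim, he, List.length_cons] at h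
          push_cast at h
          exact lt_irrefl _ h
        · rw [← hdim, List.length_cons] at h
          exact eq_of_succ_eq h
    · intro N₁ _ _ _ N₂ _ _ _ N₃ _ _ _ f g hf hg hfg ih₁ ih₃ h₂
      obtain ⟨h₁, h₃, hadd⟩ := chi_add' (x :: l) hfg hf hg h₂
      obtain ⟨a1, a2, a3⟩ := ih₁ h₁
      obtain ⟨b1, b2, b3⟩ := ih₃ h₃
      rw [hadd, supportDim_exact hfg hf hg]
      refine ⟨fun h => ?_, add_nonneg a2 b2, fun h => ?_⟩
      · rw [max_lt_iff] at h
        rw [a1 h.1, b1 h.2, add_zero]
      · rcases max_choice (Module.supportDim A N₁) (Module.supportDim A N₃) with e | e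
        · rw [e] at h; exact add_pos_of_pos_of_nonneg (a3 h) b2
        · rw [e] at h; exact add_pos_of_nonneg_of_pos a2 (b3 h)

/-- Serre: `χ = rank · χ(A)` over a domain -/
theorem chi_rank [IsDomain A] (l : List A) (hl : ∀ a ∈ l, a ∈ maximalIdeal A)
    (hd : ringKrullDim A = (l.length : WithBot ℕ∞)) (hA : FL l (ModuleCat.of A A))
    (M : Type u) [AddCommGroup M] [Module A M] [hfin : Module.Finite A M] :
    chi l (ModuleCat.of A M) =
      (Module.finrank (FractionRing A) (FractionRing A ⊗[A] M) : ℤ) * chi l (ModuleCat.of A A) := by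
  have hFL : ∀ (N : Type u) [AddCommGroup N] [Module A N], FL l (ModuleCat.of A N) := fun N _ _ =>
    hA.mono ((sup_le_sup_left ((Module.annihilator_eq_bot.2 inferInstance).trans_le bot_le) _).trans Ideal.le_radical)
  refine IsNoetherianRing.induction_on_isQuotientEquivQuotientPrime A (M := M) hfin
      (motive := fun N => chi l (ModuleCat.of A N) =
        (Module.finrank (FractionRing A) (FractionRing A ⊗[A] N) : ℤ) * chi l (ModuleCat.of A A)) ?_ ?_ ?_
  · intro N _ _ _ _
    haveI : Subsingleton (ModuleCat.of A N) := ‹_›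
    rw [chi_of_subsingleton l (ModuleCat.of A N), Module.finrank_zero_of_subsingleton, Nat.cast_zero, zero_mul]
  · intro D _ _ _ p e
    by_cases hp : p.1 = ⊥
    · let e' : D ≃ₗ[A] A := e ≪≫ₗ Submodule.quotEquivOfEqBot _ hp
      rw [chi_of_iso l (e'.toModuleIso),
        (TensorProduct.AlgebraTensorModule.congr (LinearEquiv.refl (FractionRing A) (FractionRing A)) e' ≪≫ₗ
          TensorProduct.AlgebraTensorModule.rid A (FractionRing A) (FractionRing A)).finrank_eq,
        Module.finrank_self, Nat.cast_one, one_mul]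
    · obtain ⟨a, hap, ha⟩ := Submodule.exists_mem_ne_zero_of_ne_bot hp
      haveI : Subsingleton (FractionRing A ⊗[A] D) := by
        refine subsingleton_of_forall_eq 0 fun y => ?_
        induction y using TensorProduct.induction_on with
        | zero => rfl
        | tmul q v =>
          have hq : q = a • ((algebraMap A (FractionRing A) a)⁻¹ * q) := by
            rw [Algebra.smul_def, ← mul_assoc, mul_inv_cancel₀ (IsFractionRing.to_map_eq_zero_iff.not.2 ha), one_mul]
          have hv : a • v = 0 := e.injective (by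
            rw [map_smul, map_zero, ← Submodule.Quotient.mk_out (e v), ← Submodule.Quotient.mk_smul,
              Submodule.Quotient.mk_eq_zero, smul_eq_mul]
            exact p.1.mul_mem_right _ hap)
          rw [hq, TensorProduct.smul_tmul, hv, TensorProduct.tmul_zero]
        | add y z hy hz => rw [hy, hz, add_zero]
      rw [Module.finrank_zero_of_subsingleton, Nat.cast_zero, zero_mul]
      refine (chi_serre l hl (ModuleCat.of A D) (hFL D)).1 ?_
      show Module.supportDim A D < _
      rw [Module.supportDim_eq_of_equiv e, Module.supportDim_quotient_eq_ringKrullDim, ← hd]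
      have ham : a ∈ maximalIdeal A := le_maximalIdeal p.2.ne_top hap
      have h1 := ringKrullDim_quotient_span_singleton_succ_eq_ringKrullDim_of_mem_nonZeroDivisors
        (mem_nonZeroDivisors_of_ne_zero ha) ham
      have h2 : ringKrullDim (A ⧸ p.1) ≤ ringKrullDim (A ⧸ Ideal.span {a}) :=
        ringKrullDim_le_of_surjective (Ideal.Quotient.factor ((Ideal.span_singleton_le_iff_mem _).2 hap))
          (Ideal.Quotient.factor_surjective _)
      refine lt_of_le_of_lt h2 ?_
      obtain ⟨k, hk⟩ := CommAlgDim.exists_ringKrullDim_eq (R := A)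
      rw [hk] at h1 ⊢
      refine lt_of_le_of_ne ?_ fun he => ?_
      · rw [← hk]; exact ringKrullDim_quotient_le _
      · rw [he] at h1
        have : k + 1 = k := by exact_mod_cast h1
        omega
  · intro N₁ _ _ _ N₂ _ _ _ N₃ _ _ _ f g hf hg hfg ih₁ ih₃
    obtain ⟨-, -, hadd⟩ := chi_add' l hfg hf hg (hFL N₂)
    let F := FractionRing A
    let f' := f.baseChange F
    let g' := g.baseChange F
    have hf' : Injective f' := Module.Flat.lTensor_preserves_injective_linearMap f hf
    have hg' : Surjective g' := LinearMap.lTensor_surjective _ hg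
    have hex : Exact f' g' := Module.Flat.lTensor_exact F hfg
    haveI : Module.Finite F (F ⊗[A] N₂) := inferInstance
    have h1 := Submodule.finrank_quotient_add_finrank (LinearMap.ker g')
    rw [(g'.quotKerEquivOfSurjective hg').finrank_eq,
      (LinearEquiv.ofEq _ _ hex.linearMap_ker_eq).finrank_eq, (LinearEquiv.ofInjective f' hf').symm.finrank_eq] at h1
    rw [hadd, ih₁, ih₃, ← h1]
    push_cast
    ring

end

end Groth.Agent.KoszChiLib
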