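import Mathlib

/-!
# Lengths, indices of linear maps, alternating sums
-/

set_option autoImplicit false
universe u v

open Function

namespace Groth.Agent.KoszChiLib

noncomputable section

variable {A : Type u} [CommRing A]

/-- the length as an integer (zero if infinite) -/
def ell (A : Type u) [CommRing A] (M : Type v) [AddCommGroup M] [Module A M] : ℤ :=
  ((Module.length A M).toNat : ℤ)

variable {L M N : Type v} [AddCommGroup L] [Module A L] [AddCommGroup M] [Module A M] [AddCommGroup N] [Module A N]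

theorem ell_of_equiv (e : M ≃ₗ[A] N) : ell A M = ell A N := by
  rw [ell, ell, e.length_eq]

theorem finLen_iff : IsFiniteLength A M ↔ Module.length A M ≠ ⊤ :=
  Module.length_ne_top_iff.symm

theorem finLen_of_equiv (e : M ≃ₗ[A] N) (h : IsFiniteLength A M) : IsFiniteLength A N := by
  rw [finLen_iff] at h ⊢
  rwa [← e.length_eq]

theorem ell_nonneg : 0 ≤ ell A M := Int.natCast_nonneg _

theorem ell_eq_zero_of_subsingleton [Subsingleton M] : ell A M = 0 := by
  simp [ell, Module.length_eq_zero]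

theorem length_ker_range (f : M →ₗ[A] N) :
    Module.length A M = Module.length A (LinearMap.ker f) + Module.length A (LinearMap.range f) :=
  Module.length_eq_add_of_exact (LinearMap.ker f).subtype f.rangeRestrict (Submodule.injective_subtype _)
    f.surjective_rangeRestrict (fun x => by
      simp only [LinearMap.rangeRestrict, Set.mem_range, Submodule.subtype_apply]
      constructor
      · intro h
        exact ⟨⟨x, by simpa [Subtype.ext_iff] using h⟩, rfl⟩
      · rintro ⟨y, rfl⟩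
        exact Subtype.ext y.2)

theorem finLen_of_map (f : M →ₗ[A] N) (h₁ : IsFiniteLength A (LinearMap.ker f))
    (h₂ : IsFiniteLength A (LinearMap.range f)) : IsFiniteLength A M := by
  rw [finLen_iff] at *
  rw [length_ker_range f]
  exact WithTop.add_ne_top.mpr ⟨h₁, h₂⟩

theorem finLen_ker (f : M →ₗ[A] N) (h : IsFiniteLength A M) : IsFiniteLength A (LinearMap.ker f) := by
  rw [finLen_iff] at *
  rw [length_ker_range f] at h
  exact (WithTop.add_ne_top.mp h).1

theorem finLen_range (f : M →ₗ[A] N) (h : IsFiniteLength A M) : IsFiniteLength A (LinearMap.range f) := by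
  rw [finLen_iff] at *
  rw [length_ker_range f] at h
  exact (WithTop.add_ne_top.mp h).2

theorem finLen_sub (S : Submodule A M) (h : IsFiniteLength A M) : IsFiniteLength A S := by
  rw [finLen_iff] at *
  exact ne_top_of_le_ne_top h (Module.length_le_of_injective S.subtype S.injective_subtype)

theorem finLen_quot (S : Submodule A M) (h : IsFiniteLength A M) : IsFiniteLength A (M ⧸ S) := by
  rw [finLen_iff] at *
  exact ne_top_of_le_ne_top h (Module.length_le_of_surjective S.mkQ S.mkQ_surjective)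

theorem ell_ker_range (f : M →ₗ[A] N) (h : IsFiniteLength A M) :
    ell A M = ell A (LinearMap.ker f) + ell A (LinearMap.range f) := by
  have h1 := finLen_iff.mp (finLen_ker f h)
  have h2 := finLen_iff.mp (finLen_range f h)
  rw [ell, ell, ell, length_ker_range f, ENat.toNat_add h1 h2]
  push_cast
  rfl

/-- for an exact pair the kernel of the second map has the length of the image of the first -/
theorem ell_ker_eq {f : L →ₗ[A] M} {g : M →ₗ[A] N} (h : Exact f g) :
    ell A (LinearMap.ker g) = ell A (LinearMap.range f) :=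
  ell_of_equiv (LinearEquiv.ofEq _ _ h.linearMap_ker_eq)

theorem finLen_middle {f : L →ₗ[A] M} {g : M →ₗ[A] N} (h : Exact f g) (hL : IsFiniteLength A L)
    (hN : IsFiniteLength A N) : IsFiniteLength A M :=
  finLen_of_map g (finLen_of_equiv (LinearEquiv.ofEq _ _ h.linearMap_ker_eq.symm) (finLen_range f hL))
    (finLen_sub _ hN)

/-- the kernel and the cokernel have finite length -/
def IndFin (f : M →ₗ[A] N) : Prop :=
  IsFiniteLength A (LinearMap.ker f) ∧ IsFiniteLength A (N ⧸ LinearMap.range f)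

/-- the index `length coker - length ker` -/
def ind (f : M →ₗ[A] N) : ℤ := ell A (N ⧸ LinearMap.range f) - ell A (LinearMap.ker f)

theorem indFin_id : IndFin (LinearMap.id : M →ₗ[A] M) := by
  haveI : Subsingleton (LinearMap.ker (LinearMap.id : M →ₗ[A] M)) :=
    ⟨fun a b => Subtype.ext ((LinearMap.mem_ker.mp a.2).trans (LinearMap.mem_ker.mp b.2).symm)⟩
  haveI : Subsingleton (M ⧸ LinearMap.range (LinearMap.id : M →ₗ[A] M)) :=
    Submodule.Quotient.subsingleton_iff.mpr (by simp)
  exact ⟨.of_subsingleton, .of_subsingleton⟩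

theorem ind_id : ind (LinearMap.id : M →ₗ[A] M) = 0 := by
  haveI : Subsingleton (LinearMap.ker (LinearMap.id : M →ₗ[A] M)) :=
    ⟨fun a b => Subtype.ext ((LinearMap.mem_ker.mp a.2).trans (LinearMap.mem_ker.mp b.2).symm)⟩
  haveI : Subsingleton (M ⧸ LinearMap.range (LinearMap.id : M →ₗ[A] M)) :=
    Submodule.Quotient.subsingleton_iff.mpr (by simp)
  rw [ind, ell_eq_zero_of_subsingleton, ell_eq_zero_of_subsingleton, sub_zero]

theorem indFin_of_finLen (f : M →ₗ[A] N) (hM : IsFiniteLength A M) (hN : IsFiniteLength A N) : IndFin f :=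
  ⟨finLen_ker f hM, finLen_quot _ hN⟩

theorem ind_self_of_finLen (f : M →ₗ[A] M) (hM : IsFiniteLength A M) : ind f = 0 := by
  have h1 := ell_ker_range f hM
  have h2 := ell_ker_range (LinearMap.range f).mkQ hM
  rw [ell_of_equiv (LinearEquiv.ofEq _ _ (Submodule.ker_mkQ (LinearMap.range f))),
    ell_of_equiv (LinearEquiv.ofTop _ (Submodule.range_mkQ (LinearMap.range f)))] at h2
  rw [ind]
  omega

theorem ell_middle {B₁ B₂ E₁ E₂ : Type v} [AddCommGroup B₁] [Module A B₁] [AddCommGroup B₂] [Module A B₂]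
    [AddCommGroup E₁] [Module A E₁] [AddCommGroup E₂] [Module A E₂]
    {f : B₁ →ₗ[A] B₂} {g : B₂ →ₗ[A] M} {h : M →ₗ[A] E₁} {k : E₁ →ₗ[A] E₂}
    (e₁ : Exact f g) (e₂ : Exact g h) (e₃ : Exact h k)
    (hf : IsFiniteLength A (B₂ ⧸ LinearMap.range f)) (hk : IsFiniteLength A (LinearMap.ker k)) :
    IsFiniteLength A M ∧ ell A M = ell A (B₂ ⧸ LinearMap.range f) + ell A (LinearMap.ker k) := by
  let a : (B₂ ⧸ LinearMap.range f) ≃ₗ[A] LinearMap.ker h :=
    (Submodule.quotEquivOfEq _ _ e₁.linearMap_ker_eq.symm) ≪≫ₗ g.quotKerEquivRange ≪≫ₗ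
      LinearEquiv.ofEq _ _ e₂.linearMap_ker_eq.symm
  let b : LinearMap.ker k ≃ₗ[A] LinearMap.range h := LinearEquiv.ofEq _ _ e₃.linearMap_ker_eq
  have hM := finLen_of_map h (finLen_of_equiv a hf) (finLen_of_equiv b hk)
  exact ⟨hM, by rw [ell_ker_range h hM, ← ell_of_equiv a, ← ell_of_equiv b]⟩

theorem ind_comp (f : L →ₗ[A] M) (g : M →ₗ[A] N) (hf : IndFin f) (hg : IndFin g) :
    IndFin (g ∘ₗ f) ∧ ind (g ∘ₗ f) = ind g + ind f := by
  let φ₀ : LinearMap.ker f →ₗ[A] LinearMap.ker (g ∘ₗ f) :=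
    Submodule.inclusion (LinearMap.ker_le_ker_comp f g)
  let φ₁ : LinearMap.ker (g ∘ₗ f) →ₗ[A] LinearMap.ker g :=
    (f ∘ₗ (LinearMap.ker (g ∘ₗ f)).subtype).codRestrict _ fun x => x.2
  let φ₂ : LinearMap.ker g →ₗ[A] M ⧸ LinearMap.range f :=
    (LinearMap.range f).mkQ ∘ₗ (LinearMap.ker g).subtype
  let φ₃ : (M ⧸ LinearMap.range f) →ₗ[A] N ⧸ LinearMap.range (g ∘ₗ f) :=
    Submodule.mapQ _ _ g (by rintro _ ⟨x, rfl⟩; exact ⟨x, rfl⟩)
  let φ₄ : (N ⧸ LinearMap.range (g ∘ₗ f)) →ₗ[A] N ⧸ LinearMap.range g :=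
    Submodule.factor (LinearMap.range_comp_le_range f g)
  have e₀ : Exact φ₀ φ₁ := fun x => by
    constructor
    · intro h
      exact ⟨⟨x.1, congrArg Subtype.val h⟩, rfl⟩
    · rintro ⟨y, rfl⟩
      exact Subtype.ext y.2
  have e₁ : Exact φ₁ φ₂ := fun x => by
    constructor
    · intro h
      obtain ⟨y, hy⟩ := (Submodule.Quotient.mk_eq_zero _).mp h
      exact ⟨⟨y, by show g (f y) = 0; rw [hy]; exact x.2⟩, Subtype.ext hy⟩
    · rintro ⟨y, rfl⟩
      exact (Submodule.Quotient.mk_eq_zero _).mpr ⟨y.1, rfl⟩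
  have e₂ : Exact φ₂ φ₃ := fun x => by
    obtain ⟨y, rfl⟩ := Submodule.Quotient.mk_surjective _ x
    constructor
    · intro h
      obtain ⟨z, hz⟩ := (Submodule.Quotient.mk_eq_zero _).mp h
      refine ⟨⟨y - f z, ?_⟩, ?_⟩
      · rw [LinearMap.mem_ker, map_sub, ← hz]
        exact sub_self _
      · show (LinearMap.range f).mkQ (y - f z) = _
        rw [map_sub, show (LinearMap.range f).mkQ (f z) = 0 from (Submodule.Quotient.mk_eq_zero _).mpr ⟨z, rfl⟩, sub_zero]
        rfl
    · rintro ⟨w, hw⟩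
      rw [← hw]
      show Submodule.Quotient.mk (g w.1) = 0
      rw [LinearMap.mem_ker.mp w.2]
      rfl
  have e₃ : Exact φ₃ φ₄ := fun x => by
    obtain ⟨y, rfl⟩ := Submodule.Quotient.mk_surjective _ x
    constructor
    · intro h
      obtain ⟨z, hz⟩ := (Submodule.Quotient.mk_eq_zero _).mp h
      exact ⟨Submodule.Quotient.mk z, congrArg Submodule.Quotient.mk hz⟩
    · rintro ⟨w, hw⟩
      obtain ⟨w, rfl⟩ := Submodule.Quotient.mk_surjective _ w
      rw [← hw]
      exact (Submodule.Quotient.mk_eq_zero _).mpr ⟨w, rfl⟩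
  have hgf1 := finLen_middle e₀ hf.1 hg.1
  have hgf2 := finLen_middle e₃ hf.2 hg.2
  refine ⟨⟨hgf1, hgf2⟩, ?_⟩
  have i₁ := ell_ker_range φ₁ hgf1
  have i₂ := ell_ker_range φ₂ hg.1
  have i₃ := ell_ker_range φ₃ hf.2
  have i₄ := ell_ker_range φ₄ hgf2
  have j₀ : ell A (LinearMap.range φ₀) = ell A (LinearMap.ker f) :=
    (ell_of_equiv (LinearEquiv.ofInjective φ₀ (Submodule.inclusion_injective _))).symm
  have j₄ : ell A (LinearMap.range φ₄) = ell A (N ⧸ LinearMap.range g) :=
    ell_of_equiv (LinearEquiv.ofTop _ (LinearMap.range_eq_top.mpr (Submodule.factor_surjective _)))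
  rw [ell_ker_eq e₀] at i₁
  rw [ell_ker_eq e₁] at i₂
  rw [ell_ker_eq e₂] at i₃
  rw [ell_ker_eq e₃, j₄] at i₄
  simp only [ind]
  omega

theorem length_le_middle {f : L →ₗ[A] M} {g : M →ₗ[A] N} (h : Exact f g) :
    Module.length A M ≤ Module.length A L + Module.length A N := by
  rw [length_ker_range g, (LinearEquiv.ofEq _ _ h.linearMap_ker_eq).length_eq]
  exact add_le_add (Module.length_le_of_surjective f.rangeRestrict f.surjective_rangeRestrict)
    (Module.length_le_of_injective _ (Submodule.injective_subtype _))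

/-! ### alternating sums over `ℤ` -/

/-- the sign `(-1)^i` -/
def sgn (i : ℤ) : ℤ := ((i.negOnePow : ℤˣ) : ℤ)

theorem sgn_succ (i : ℤ) : sgn (i + 1) = - sgn i := by
  simp [sgn, Int.negOnePow_succ]

theorem finite_support_of_eq_zero {f : ℤ → ℤ} {a b : ℤ} (h : ∀ i, (i < a ∨ b < i) → f i = 0) :
    (support f).Finite :=
  (Set.finite_Icc a b).subset fun i hi => by
    rw [Set.mem_Icc]
    by_contra hc
    exact hi (h i (by omega))

theorem finsum_sgn_succ (f : ℤ → ℤ) : (∑ᶠ i, sgn i * f (i + 1)) = - ∑ᶠ i, sgn i * f i := by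
  rw [← finsum_neg_distrib, ← finsum_comp_equiv (Equiv.addRight (1 : ℤ)) (f := fun i => -(sgn i * f i))]
  refine finsum_congr fun i => ?_
  simp [sgn_succ]

theorem finsum_sgn_add (f g : ℤ → ℤ) (hf : (support f).Finite) (hg : (support g).Finite) :
    (∑ᶠ i, sgn i * (f i + g i)) = (∑ᶠ i, sgn i * f i) + ∑ᶠ i, sgn i * g i := by
  rw [← finsum_add_distrib (hf.subset fun i hi h => hi (by rw [h, mul_zero]))
    (hg.subset fun i hi h => hi (by rw [h, mul_zero]))]
  exact finsum_congr fun i => mul_add _ _ _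

end

end Groth.Agent.KoszChiLib
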