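import Groth.Agent.KoszChiLib.Alg
import Groth.Agent.KoszDetLib.Cone
import Groth.Agent.NewIntersectLib.CanonKoszul
import Groth.Agent.LocCohLib.Cone
import Groth.Agent.InjHullLib.Local
import Groth.Agent.S6292
import Groth.Prelude.Def_DRing2

/-!
# Koszul homology with coefficients: exact sequences and finiteness
-/

set_option autoImplicit false
universe u

open CategoryTheory CategoryTheory.Limits MonoidalCategory IsLocalRing Function

namespace Groth.Agent.KoszChiLib

noncomputable section

variable {A : Type u} [CommRing A]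

/-- the Koszul complex with coefficients -/
abbrev T (l : List A) (M : ModuleCat.{u} A) : CochainComplex (ModuleCat.{u} A) ℤ :=
  DRing.tensorCx (Koszul.koszul A l) M

/-- Koszul homology with coefficients -/
abbrev H (l : List A) (M : ModuleCat.{u} A) (i : ℤ) : ModuleCat.{u} A := (T l M).homology i

/-- functoriality in the coefficients -/
def Tmap (l : List A) {M N : ModuleCat.{u} A} (a : M ⟶ N) : T l M ⟶ T l N where
  f i := (Koszul.koszul A l).X i ◁ a
  comm' i j _ := whisker_exchange ((Koszul.koszul A l).d i j) a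

theorem Tmap_comp (l : List A) {M N P : ModuleCat.{u} A} (a : M ⟶ N) (b : N ⟶ P) :
    Tmap l (a ≫ b) = Tmap l a ≫ Tmap l b := by
  ext i : 1
  exact MonoidalCategory.whiskerLeft_comp _ _ _

theorem Tmap_smul_id (l : List A) (M : ModuleCat.{u} A) (x : A) :
    Tmap l (x • 𝟙 M) = x • 𝟙 (T l M) := by
  ext i : 1
  show (Koszul.koszul A l).X i ◁ (x • 𝟙 M) = x • 𝟙 _
  rw [MonoidalLinear.whiskerLeft_smul, MonoidalCategory.whiskerLeft_id]
  rfl

/-- the map induced in Koszul homology -/
def Hmap (l : List A) {M N : ModuleCat.{u} A} (a : M ⟶ N) (i : ℤ) : H l M i →ₗ[A] H l N i :=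
  (HomologicalComplex.homologyMap (Tmap l a) i).hom

theorem homologyMap_smul_id (C : CochainComplex (ModuleCat.{u} A) ℤ) (x : A) (i : ℤ) :
    HomologicalComplex.homologyMap (x • 𝟙 C) i = x • 𝟙 (C.homology i) := by
  rw [← HomologicalComplex.homologyMap_id]
  exact ShortComplex.homologyMap_smul (φ := (HomologicalComplex.shortComplexFunctor _ _ i).map (𝟙 C)) x

theorem Hmap_smul_id (l : List A) (M : ModuleCat.{u} A) (x : A) (i : ℤ) :
    Hmap l (x • 𝟙 M) i = x • LinearMap.id := by
  rw [Hmap, Tmap_smul_id, homologyMap_smul_id]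
  rfl

theorem Hmap_comp (l : List A) {M N P : ModuleCat.{u} A} (a : M ⟶ N) (b : N ⟶ P) (i : ℤ) :
    Hmap l (a ≫ b) i = Hmap l b i ∘ₗ Hmap l a i := by
  rw [Hmap, Tmap_comp, HomologicalComplex.homologyMap_comp]
  rfl

theorem map_smul_id_T (x : A) (l : List A) (M : ModuleCat.{u} A) :
    ((tensorRight M).mapHomologicalComplex (ComplexShape.up ℤ)).map (x • 𝟙 (Koszul.koszul A l)) = x • 𝟙 (T l M) := by
  refine HomologicalComplex.Hom.ext (funext fun i => ?_)
  show (x • 𝟙 ((Koszul.koszul A l).X i)) ▷ M = x • 𝟙 _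
  rw [MonoidalLinear.smul_whiskerRight, MonoidalCategory.id_whiskerRight]
  rfl

theorem T_cons (x : A) (l : List A) (M : ModuleCat.{u} A) :
    T (x :: l) M = ((tensorRight M).mapHomologicalComplex (ComplexShape.up ℤ)).obj
      (CochainComplex.mappingCone (x • 𝟙 (Koszul.koszul A l))) := by
  unfold T DRing.tensorCx
  rw [Koszul.koszul]

/-- multiplication by the head is the cone -/
def coneIso (x : A) (l : List A) (M : ModuleCat.{u} A) :
    T (x :: l) M ≅ CochainComplex.mappingCone (x • 𝟙 (T l M)) :=
  eqToIso (T_cons x l M) ≪≫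
    CochainComplex.mappingCone.mapHomologicalComplexIso (x • 𝟙 (Koszul.koszul A l)) (tensorRight M) ≪≫
    eqToIso (congrArg (fun φ : T l M ⟶ T l M => CochainComplex.mappingCone φ) (map_smul_id_T x l M))

theorem cone_exact {C : CochainComplex (ModuleCat.{u} A) ℤ} (φ : C ⟶ C) (n : ℤ) :
    ∃ (g : C.homology n →ₗ[A] (CochainComplex.mappingCone φ).homology n)
      (h : (CochainComplex.mappingCone φ).homology n →ₗ[A] C.homology (n + 1)),
      Exact (HomologicalComplex.homologyMap φ n).hom g ∧ Exact g h ∧
        Exact h (HomologicalComplex.homologyMap φ (n + 1)).hom := by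
  let e := LocCohLib.shiftHomologyIso C (1 : ℤ) n (n + 1) (by ring)
  refine ⟨(HomologicalComplex.homologyMap (CochainComplex.mappingCone.inr φ) n).hom,
    (HomologicalComplex.homologyMap (LocCohLib.coneδ φ) n ≫ e.hom).hom,
    (CategoryTheory.ShortComplex.ShortExact.moduleCat_exact_iff_function_exact _).1 (LocCohLib.exact_inr φ n),
    ?_, ?_⟩
  · have h1 := (CategoryTheory.ShortComplex.ShortExact.moduleCat_exact_iff_function_exact _).1 (LocCohLib.exact_δ φ n)
    exact h1.comp_injective (⇑e.toLinearEquiv) e.toLinearEquiv.injective (map_zero e.toLinearEquiv)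
  · let T₂ := (CochainComplex.mappingCone.triangle φ).rotate.rotate
    have h1 := (CategoryTheory.ShortComplex.ShortExact.moduleCat_exact_iff_function_exact _).1
      (LocCohLib.exact_of_dist T₂
        (LocCohLib.rotate_dist _ (LocCohLib.rotate_dist _ (LocCohLib.cone_dist φ))) n)
    intro y
    obtain ⟨z, rfl⟩ := e.toLinearEquiv.surjective y
    have hn := ConcreteCategory.congr_hom (LocCohLib.shiftHomologyIso_naturality φ (1 : ℤ) n (n + 1) (by ring)) z
    simp only [ModuleCat.comp_apply] at hn
    have hm : T₂.mor₂ = -((CategoryTheory.shiftFunctor (CochainComplex (ModuleCat.{u} A) ℤ) (1 : ℤ)).map φ) := rfl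
    have key : (HomologicalComplex.homologyMap T₂.mor₂ n).hom z = 0 ↔
        (HomologicalComplex.homologyMap φ (n + 1)).hom (e.toLinearEquiv z) = 0 := by
      rw [hm]
      erw [HomologicalComplex.homologyMap_neg]
      show -(_ : _) = (0 : _) ↔ _
      rw [neg_eq_zero]
      constructor
      · intro h
        exact (hn.symm.trans ((congrArg e.hom h).trans (map_zero _)))
      · intro h
        apply e.toLinearEquiv.injective
        exact hn.trans h |>.trans (map_zero e.toLinearEquiv).symm
    rw [← key, h1 z]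
    constructor
    · rintro ⟨w, hw⟩
      exact ⟨w, congrArg e.hom hw⟩
    · rintro ⟨w, hw⟩
      exact ⟨w, e.toLinearEquiv.injective hw⟩

/-- the five term sequence for the head of the list -/
theorem five (x : A) (l : List A) (M : ModuleCat.{u} A) (i : ℤ) :
    ∃ (g : H l M i →ₗ[A] H (x :: l) M i) (h : H (x :: l) M i →ₗ[A] H l M (i + 1)),
      Exact (x • LinearMap.id : H l M i →ₗ[A] H l M i) g ∧ Exact g h ∧
        Exact h (x • LinearMap.id : H l M (i + 1) →ₗ[A] H l M (i + 1)) := by
  obtain ⟨g, h, h1, h2, h3⟩ := cone_exact (x • 𝟙 (T l M)) i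
  rw [homologyMap_smul_id] at h1 h3
  let e := ((HomologicalComplex.homologyFunctor (ModuleCat.{u} A) (ComplexShape.up ℤ) i).mapIso
    (coneIso x l M)).toLinearEquiv
  refine ⟨e.symm.toLinearMap ∘ₗ g, h ∘ₗ e.toLinearMap, ?_, ?_, ?_⟩
  · exact h1.comp_injective (⇑e.symm) e.symm.injective (map_zero e.symm)
  · intro y
    constructor
    · intro hy
      obtain ⟨w, hw⟩ := (h2 (e y)).1 hy
      exact ⟨w, by show e.symm (g w) = y; rw [hw, LinearEquiv.symm_apply_apply]⟩
    · rintro ⟨w, rfl⟩
      show h (e (e.symm (g w))) = 0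
      rw [LinearEquiv.apply_symm_apply]
      exact (h2 (g w)).2 ⟨w, rfl⟩
  · intro y
    rw [show ((x • LinearMap.id : H l M (i + 1) →ₗ[A] H l M (i + 1)) y = 0) ↔ _ from h3 y]
    constructor
    · rintro ⟨w, rfl⟩
      exact ⟨e.symm w, congrArg h (e.apply_symm_apply w)⟩
    · rintro ⟨w, rfl⟩
      exact ⟨e w, rfl⟩

/-- the complex of the empty list -/
def nilIso (M : ModuleCat.{u} A) : T ([] : List A) M ≅
    (HomologicalComplex.single (ModuleCat.{u} A) (ComplexShape.up ℤ) 0).obj M :=
  ((HomologicalComplex.singleMapHomologicalComplex (tensorRight M) (ComplexShape.up ℤ) 0).app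
      (ModuleCat.of A A)) ≪≫
    (HomologicalComplex.single (ModuleCat.{u} A) (ComplexShape.up ℤ) 0).mapIso (λ_ M)

/-- `H⁰` for the empty list -/
def H_nil (M : ModuleCat.{u} A) : H ([] : List A) M 0 ≃ₗ[A] M :=
  (((HomologicalComplex.homologyFunctor (ModuleCat.{u} A) (ComplexShape.up ℤ) 0).mapIso (nilIso M)) ≪≫
    HomologicalComplex.singleObjHomologySelfIso (ComplexShape.up ℤ) 0 M).toLinearEquiv

theorem H_eq_zero : ∀ (l : List A) (M : ModuleCat.{u} A) (i : ℤ), (0 < i ∨ i < -(l.length : ℤ)) →
    Subsingleton (H l M i)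
  | [], M, i, hi => by
    have h := HomologicalComplex.isZero_single_obj_homology (ComplexShape.up ℤ) 0 M i (by
      simp only [List.length_nil, Nat.cast_zero, neg_zero] at hi; omega)
    exact ModuleCat.subsingleton_of_isZero (h.of_iso
      ((HomologicalComplex.homologyFunctor (ModuleCat.{u} A) (ComplexShape.up ℤ) i).mapIso (nilIso M)))
  | x :: l, M, i, hi => by
    obtain ⟨g, h, -, h2, -⟩ := five x l M i
    simp only [List.length_cons, Nat.cast_add, Nat.cast_one] at hi
    haveI := H_eq_zero l M i (by omega)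
    haveI := H_eq_zero l M (i + 1) (by omega)
    refine subsingleton_of_forall_eq 0 fun y => ?_
    obtain ⟨w, rfl⟩ := (h2 y).1 (Subsingleton.elim _ _)
    rw [Subsingleton.elim w 0, map_zero]

theorem finite_middle [IsNoetherianRing A] {L M N : Type u} [AddCommGroup L] [Module A L] [AddCommGroup M]
    [Module A M] [AddCommGroup N] [Module A N] [Module.Finite A L] [Module.Finite A N] {f : L →ₗ[A] M}
    {g : M →ₗ[A] N} (h : Exact f g) : Module.Finite A M := by
  refine ⟨Submodule.fg_of_fg_map_of_fg_inf_ker g (IsNoetherian.noetherian _) ?_⟩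
  rw [top_inf_eq, h.linearMap_ker_eq, LinearMap.range_eq_map]
  exact (Module.Finite.fg_top).map f

theorem H_finite [IsNoetherianRing A] : ∀ (l : List A) (M : ModuleCat.{u} A) [Module.Finite A M] (i : ℤ),
    Module.Finite A (H l M i)
  | [], M, _, i => by
    by_cases hi : i = 0
    · subst hi
      exact Module.Finite.equiv (H_nil M).symm
    · haveI := H_eq_zero ([] : List A) M i (by simp; omega)
      infer_instance
  | x :: l, M, _, i => by
    obtain ⟨g, h, -, h2, -⟩ := five x l M i
    haveI := H_finite l M i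
    haveI := H_finite l M (i + 1)
    exact finite_middle h2

/-- the ideal of a list -/
abbrev Idl (l : List A) : Ideal A := Ideal.span {a | a ∈ l}

theorem sq_mul_mem_annihilator {L M N : Type u} [AddCommGroup L] [Module A L] [AddCommGroup M]
    [Module A M] [AddCommGroup N] [Module A N] {f : L →ₗ[A] M} {g : M →ₗ[A] N} (h : Exact f g) (a b : A)
    (ha : ∀ y, a • f y = 0) (hb : ∀ y, b • g y = 0) : a * b ∈ Module.annihilator A M :=
  Module.mem_annihilator.2 fun y => by
    obtain ⟨w, hw⟩ := (h (b • y)).1 (by rw [map_smul]; exact hb y)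
    rw [mul_smul, ← hw]
    exact ha w

theorem radical_annihilator : ∀ (l : List A) (M : ModuleCat.{u} A) (i : ℤ),
    Idl l ⊔ Module.annihilator A M ≤ (Module.annihilator A (H l M i)).radical
  | [], M, i => by
    refine le_trans ?_ Ideal.le_radical
    rw [show Idl ([] : List A) = ⊥ by simp [Idl], bot_sup_eq]
    by_cases hi : i = 0
    · subst hi
      rw [(H_nil M).annihilator_eq]
    · haveI := H_eq_zero ([] : List A) M i (by simp; omega)
      intro a _
      exact Module.mem_annihilator.2 fun y => Subsingleton.elim _ _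
  | x :: l, M, i => by
    obtain ⟨g, h, h1, h2, h3⟩ := five x l M i
    have hx : x * x ∈ Module.annihilator A (H (x :: l) M i) := by
      refine sq_mul_mem_annihilator h2 x x (fun y => ?_) fun y => ?_
      · rw [← map_smul]
        exact (h1 (x • y)).2 ⟨y, rfl⟩
      · exact (h3 (h y)).2 ⟨y, rfl⟩
    rw [show Idl (x :: l) = Ideal.span {x} ⊔ Idl l by
      rw [Idl, Idl, ← Ideal.span_union]; congr 1; ext a; simp, sup_assoc, sup_le_iff]
    refine ⟨(Ideal.span_singleton_le_iff_mem _).2 ⟨2, by rwa [pow_two]⟩, fun a ha => ?_⟩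
    obtain ⟨n, hn⟩ := radical_annihilator l M i ha
    obtain ⟨m, hm⟩ := radical_annihilator l M (i + 1) ha
    refine ⟨n + m, ?_⟩
    rw [pow_add]
    refine sq_mul_mem_annihilator h2 _ _ (fun y => ?_) fun y => Module.mem_annihilator.1 hm _
    rw [← map_smul, Module.mem_annihilator.1 hn, map_zero]

/-- `M/(l)M` is supported at the closed point -/
def FL [IsLocalRing A] (l : List A) (M : ModuleCat.{u} A) : Prop :=
  maximalIdeal A ≤ (Idl l ⊔ Module.annihilator A M).radical

theorem H_finLen [IsLocalRing A] [IsNoetherianRing A] (l : List A) (M : ModuleCat.{u} A) [Module.Finite A M]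
    (hM : FL l M) (i : ℤ) : IsFiniteLength A (H l M i) := by
  haveI := H_finite l M i
  obtain ⟨k, hk⟩ := Ideal.exists_pow_le_of_le_radical_of_fg
    (hM.trans (Ideal.radical_le_radical_iff.2 (radical_annihilator l M i))) (IsNoetherian.noetherian _)
  refine Groth.Agent.S6292.result (maximalIdeal A) (IsNoetherian.noetherian _) _ k (eq_bot_iff.2 ?_)
  exact Submodule.smul_le.2 fun a ha y _ => (Submodule.mem_bot A).2 (Module.mem_annihilator.1 (hk ha) y)

theorem flat_X (l : List A) (i : ℤ) : Module.Flat A ((Koszul.koszul A l).X i) := by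
  rw [← List.ofFn_get l]
  set f := fun j => l.get j
  rcases le_or_gt i 0 with hi | hi
  · obtain ⟨j, rfl⟩ : ∃ j : ℕ, i = -(j : ℤ) := ⟨(-i).toNat, by omega⟩
    exact Module.Flat.of_linearEquiv (NewIntersectLib.coord f j)
  · haveI := NewIntersectLib.isZero_of_pos f i (fun s => by omega)
    infer_instance

/-- the long exact sequence in the coefficients -/
theorem les (l : List A) {M N P : ModuleCat.{u} A} (a : M ⟶ N) (b : N ⟶ P) (w : a ≫ b = 0)
    (hS : (ShortComplex.mk a b w).ShortExact) (i : ℤ) :
    ∃ δ : H l P i →ₗ[A] H l M (i + 1), Exact (Hmap l a i) (Hmap l b i) ∧ Exact (Hmap l b i) δ ∧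
      Exact δ (Hmap l a (i + 1)) := by
  let S : ShortComplex (CochainComplex (ModuleCat.{u} A) ℤ) := ShortComplex.mk (Tmap l a) (Tmap l b) (by
    rw [← Tmap_comp, w]
    ext j : 1
    exact MonoidalPreadditive.whiskerLeft_zero)
  have hS' : S.ShortExact := HomologicalComplex.shortExact_of_degreewise_shortExact _ fun j => by
    haveI := flat_X l j
    haveI := hS.mono_f
    haveI := hS.epi_g
    exact
      { exact := (CategoryTheory.ShortComplex.ShortExact.moduleCat_exact_iff_function_exact _).2
          (Module.Flat.lTensor_exact _ ((CategoryTheory.ShortComplex.ShortExact.moduleCat_exact_iff_function_exact _).1 hS.exact))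
        mono_f := (ModuleCat.mono_iff_injective _).2
          (Module.Flat.lTensor_preserves_injective_linearMap a.hom ((ModuleCat.mono_iff_injective a).1 inferInstance))
        epi_g := (ModuleCat.epi_iff_surjective _).2
          (LinearMap.lTensor_surjective _ ((ModuleCat.epi_iff_surjective b).1 inferInstance)) }
  exact ⟨(hS'.δ i (i + 1) rfl).hom,
    (CategoryTheory.ShortComplex.ShortExact.moduleCat_exact_iff_function_exact _).1 (hS'.homology_exact₂ i),
    (CategoryTheory.ShortComplex.ShortExact.moduleCat_exact_iff_function_exact _).1 (hS'.homology_exact₃ i (i + 1) rfl),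
    (CategoryTheory.ShortComplex.ShortExact.moduleCat_exact_iff_function_exact _).1 (hS'.homology_exact₁ i (i + 1) rfl)⟩

end

end Groth.Agent.KoszChiLib
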