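import Groth.Agent.KoszChiLib.Thms

/-!
# Bounds for the lengths of Koszul homology of powers
-/

set_option autoImplicit false
universe u

open CategoryTheory IsLocalRing Function

namespace Groth.Agent.KoszChiLib

noncomputable section

variable {A : Type u} [CommRing A]

/-- length of Koszul homology -/
abbrev len (l : List A) (M : ModuleCat.{u} A) (i : ℤ) : ℕ∞ := Module.length A (H l M i)

theorem len_zero (l : List A) (M : ModuleCat.{u} A) (i : ℤ) (h : 0 < i ∨ i < -(l.length : ℤ)) : len l M i = 0 := by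
  haveI := H_eq_zero l M i h
  exact Module.length_eq_zero

theorem len_five (x : A) (l : List A) (M : ModuleCat.{u} A) (i : ℤ) :
    len (x :: l) M i ≤ Module.length A (H l M i ⧸ LinearMap.range (x • LinearMap.id : H l M i →ₗ[A] H l M i)) +
      Module.length A (LinearMap.ker (x • LinearMap.id : H l M (i + 1) →ₗ[A] H l M (i + 1))) := by
  obtain ⟨g, h, h1, h2, h3⟩ := five x l M i
  have h0 : len (x :: l) M i = Module.length A (LinearMap.ker h) + Module.length A (LinearMap.range h) :=
    length_ker_range h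
  rw [h0, (LinearEquiv.ofEq _ _ h2.linearMap_ker_eq).length_eq,
    (LinearEquiv.ofEq _ _ h3.linearMap_ker_eq).length_eq,
    ((Submodule.quotEquivOfEq _ _ h1.linearMap_ker_eq.symm) ≪≫ₗ g.quotKerEquivRange).length_eq]

theorem len_five' (x : A) (l : List A) (M : ModuleCat.{u} A) (i : ℤ) :
    len (x :: l) M i ≤ len l M i + len l M (i + 1) :=
  (len_five x l M i).trans (add_le_add (Module.length_le_of_surjective _ (Submodule.mkQ_surjective _))
    (Module.length_le_of_injective _ (Submodule.injective_subtype _)))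

theorem len_exact (l : List A) {M N P : Type u} [AddCommGroup M] [Module A M] [AddCommGroup N] [Module A N]
    [AddCommGroup P] [Module A P] {f : M →ₗ[A] N} {g : N →ₗ[A] P} (h : Exact f g) (hf : Injective f)
    (hg : Surjective g) (i : ℤ) :
    len l (ModuleCat.of A N) i ≤ len l (ModuleCat.of A M) i + len l (ModuleCat.of A P) i := by
  obtain ⟨δ, h1, -, -⟩ := les l (ModuleCat.ofHom f) (ModuleCat.ofHom g)
    (ModuleCat.hom_ext (LinearMap.ext fun y => h.apply_apply_eq_zero y))
    { exact := (CategoryTheory.ShortComplex.ShortExact.moduleCat_exact_iff_function_exact _).2 h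
      mono_f := (ModuleCat.mono_iff_injective _).2 hf
      epi_g := (ModuleCat.epi_iff_surjective _).2 hg } i
  exact length_le_middle h1

theorem len_of_subsingleton (l : List A) (M : ModuleCat.{u} A) [Subsingleton M] (i : ℤ) : len l M i = 0 := by
  haveI : Subsingleton (H l M i) := by
    have h0 : (0 : A) • 𝟙 M = 𝟙 M := ModuleCat.hom_ext (LinearMap.ext fun y => Subsingleton.elim (α := M) _ _)
    have h1 := Hmap_smul_id l M 0 i
    have h2 := Hmap_smul_id l M 1 i
    rw [h0] at h1
    rw [one_smul] at h2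
    refine subsingleton_of_forall_eq 0 fun y => ?_
    have := LinearMap.congr_fun (h2.symm.trans h1) y
    simpa using this
  exact Module.length_eq_zero

theorem len_le_of_equiv (l : List A) {M N : Type u} [AddCommGroup M] [Module A M] [AddCommGroup N] [Module A N]
    (e : M ≃ₗ[A] N) (i : ℤ) : len l (ModuleCat.of A N) i ≤ len l (ModuleCat.of A M) i := by
  haveI : Subsingleton (ModuleCat.of A PUnit.{u + 1}) := inferInstanceAs (Subsingleton PUnit.{u + 1})
  have := len_exact l (f := e.toLinearMap) (g := (0 : N →ₗ[A] PUnit.{u + 1}))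
    (fun y => ⟨fun _ => ⟨e.symm y, e.apply_symm_apply y⟩, fun _ => rfl⟩) e.injective
    (fun y => ⟨0, Subsingleton.elim _ _⟩) i
  rwa [len_of_subsingleton l (ModuleCat.of A PUnit.{u + 1}) i, add_zero] at this

theorem length_coker_comp {L M N : Type u} [AddCommGroup L] [Module A L] [AddCommGroup M] [Module A M]
    [AddCommGroup N] [Module A N] (f : L →ₗ[A] M) (g : M →ₗ[A] N) :
    Module.length A (N ⧸ LinearMap.range (g ∘ₗ f)) ≤
      Module.length A (M ⧸ LinearMap.range f) + Module.length A (N ⧸ LinearMap.range g) := by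
  refine length_le_middle (f := Submodule.mapQ _ _ g (by rintro _ ⟨x, rfl⟩; exact ⟨x, rfl⟩))
    (g := Submodule.factor (LinearMap.range_comp_le_range f g)) fun x => ?_
  obtain ⟨y, rfl⟩ := Submodule.Quotient.mk_surjective _ x
  constructor
  · intro h
    obtain ⟨z, hz⟩ := (Submodule.Quotient.mk_eq_zero _).mp h
    exact ⟨Submodule.Quotient.mk z, congrArg Submodule.Quotient.mk hz⟩
  · rintro ⟨w, hw⟩
    obtain ⟨w, rfl⟩ := Submodule.Quotient.mk_surjective _ w
    rw [← hw]
    exact (Submodule.Quotient.mk_eq_zero _).mpr ⟨w, rfl⟩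

theorem length_ker_comp {L M N : Type u} [AddCommGroup L] [Module A L] [AddCommGroup M] [Module A M]
    [AddCommGroup N] [Module A N] (f : L →ₗ[A] M) (g : M →ₗ[A] N) :
    Module.length A (LinearMap.ker (g ∘ₗ f)) ≤ Module.length A (LinearMap.ker f) + Module.length A (LinearMap.ker g) := by
  refine length_le_middle (f := Submodule.inclusion (LinearMap.ker_le_ker_comp f g))
    (g := (f ∘ₗ (LinearMap.ker (g ∘ₗ f)).subtype).codRestrict _ fun x => x.2) fun x => ?_
  constructor
  · intro h
    exact ⟨⟨x.1, congrArg Subtype.val h⟩, rfl⟩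
  · rintro ⟨y, rfl⟩
    exact Subtype.ext y.2

/-- the head through the coefficients, as a bound -/
theorem len_cons' (x : A) (l : List A) (M : ModuleCat.{u} A) (i : ℤ) :
    len (x :: l) M i ≤ 2 * len l (ModuleCat.of A (M ⧸ LinearMap.range (x • LinearMap.id : M →ₗ[A] M))) i +
      2 * len l (ModuleCat.of A (LinearMap.ker (x • LinearMap.id : M →ₗ[A] M))) (i + 1) := by
  set φ : M →ₗ[A] M := x • LinearMap.id with hφ
  let S : ModuleCat.{u} A := ModuleCat.of A (LinearMap.ker φ)
  let K : ModuleCat.{u} A := ModuleCat.of A (LinearMap.range φ)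
  let Q : ModuleCat.{u} A := ModuleCat.of A (M ⧸ LinearMap.range φ)
  let s : S ⟶ M := ModuleCat.ofHom (LinearMap.ker φ).subtype
  let p : M ⟶ K := ModuleCat.ofHom φ.rangeRestrict
  let v : K ⟶ M := ModuleCat.ofHom (LinearMap.range φ).subtype
  let q : M ⟶ Q := ModuleCat.ofHom (LinearMap.range φ).mkQ
  have w₁ : s ≫ p = 0 := ModuleCat.hom_ext (LinearMap.ext fun y => Subtype.ext y.2)
  have w₂ : v ≫ q = 0 := ModuleCat.hom_ext (LinearMap.ext fun y => (Submodule.Quotient.mk_eq_zero _).2 y.2)
  have h₁ : (ShortComplex.mk s p w₁).ShortExact :=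
    { exact := (ShortComplex.moduleCat_exact_iff _).2 fun y hy => ⟨⟨y, congrArg Subtype.val hy⟩, rfl⟩
      mono_f := (ModuleCat.mono_iff_injective _).2 Subtype.val_injective
      epi_g := (ModuleCat.epi_iff_surjective _).2 φ.surjective_rangeRestrict }
  have h₂ : (ShortComplex.mk v q w₂).ShortExact :=
    { exact := (ShortComplex.moduleCat_exact_iff _).2 fun y hy => ⟨⟨y, (Submodule.Quotient.mk_eq_zero _).1 hy⟩, rfl⟩
      mono_f := (ModuleCat.mono_iff_injective _).2 Subtype.val_injective
      epi_g := (ModuleCat.epi_iff_surjective _).2 (Submodule.mkQ_surjective _) }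
  obtain ⟨δp, e1, e2, e3⟩ := les l s p w₁ h₁ i
  obtain ⟨-, e4, -, -⟩ := les l s p w₁ h₁ (i + 1)
  obtain ⟨δv, f1, f2, f3⟩ := les l v q w₂ h₂ i
  have hc : ∀ j, (x • LinearMap.id : H l M j →ₗ[A] H l M j) = Hmap l v j ∘ₗ Hmap l p j := fun j => by
    rw [← Hmap_comp, ← Hmap_smul_id]
    rfl
  have b1 : Module.length A (H l M i ⧸ LinearMap.range (Hmap l v i)) ≤ len l Q i := by
    rw [((Submodule.quotEquivOfEq _ _ f1.linearMap_ker_eq.symm) ≪≫ₗ (Hmap l q i).quotKerEquivRange).length_eq]
    exact Module.length_le_of_injective _ (Submodule.injective_subtype _)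
  have b2 : Module.length A (H l K i ⧸ LinearMap.range (Hmap l p i)) ≤ len l S (i + 1) := by
    rw [((Submodule.quotEquivOfEq _ _ e2.linearMap_ker_eq.symm) ≪≫ₗ δp.quotKerEquivRange).length_eq]
    exact Module.length_le_of_injective _ (Submodule.injective_subtype _)
  have b3 : Module.length A (LinearMap.ker (Hmap l p (i + 1))) ≤ len l S (i + 1) := by
    rw [(LinearEquiv.ofEq _ _ e4.linearMap_ker_eq).length_eq]
    exact Module.length_le_of_surjective _ (LinearMap.surjective_rangeRestrict _)
  have b4 : Module.length A (LinearMap.ker (Hmap l v (i + 1))) ≤ len l Q i := by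
    rw [(LinearEquiv.ofEq _ _ f3.linearMap_ker_eq).length_eq]
    exact Module.length_le_of_surjective _ (LinearMap.surjective_rangeRestrict _)
  refine (len_five x l M i).trans ?_
  rw [hc i, hc (i + 1)]
  refine (add_le_add ((length_coker_comp _ _).trans (add_le_add b2 b1))
    ((length_ker_comp _ _).trans (add_le_add b3 b4))).trans (le_of_eq ?_)
  rw [two_mul, two_mul]
  abel

/-- a family with finitely many members has a common bound -/
theorem exists_uniform {X : Type*} [PartialOrder X] [WellFoundedGT X] (U : ℕ →o X)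
    (f : X → ℕ → ℕ∞) (g : ℕ → ℕ) (h : ∀ j, ∃ c : ℕ, ∀ n, 0 < n → f (U j) n ≤ ((c * g n : ℕ) : ℕ∞)) :
    ∃ c : ℕ, ∀ j n, 0 < n → f (U j) n ≤ ((c * g n : ℕ) : ℕ∞) := by
  obtain ⟨N, hN⟩ := WellFoundedGT.monotone_chain_condition U
  choose c hc using h
  refine ⟨(Finset.range (N + 1)).sup c, fun j n hn => ?_⟩
  have key : ∀ j ≤ N, f (U j) n ≤ (((Finset.range (N + 1)).sup c * g n : ℕ) : ℕ∞) := fun j hj =>
    (hc j n hn).trans (Nat.cast_le.2 (Nat.mul_le_mul_right _ (Finset.le_sup (Finset.mem_range.2 (by omega)))))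
  rcases le_total j N with hj | hj
  · exact key j hj
  · rw [← hN j hj]
    exact key N le_rfl

/-- `xM + M[x^j]` -/
def U (x : A) (M : Type u) [AddCommGroup M] [Module A M] : ℕ →o Submodule A M where
  toFun j := LinearMap.range (x • LinearMap.id : M →ₗ[A] M) ⊔ LinearMap.ker (x ^ j • LinearMap.id : M →ₗ[A] M)
  monotone' j j' h := sup_le_sup_left (fun y hy => by
    obtain ⟨t, rfl⟩ := Nat.exists_eq_add_of_le h
    simp only [LinearMap.mem_ker, LinearMap.smul_apply, LinearMap.id_coe, id_eq] at hy ⊢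
    rw [add_comm, pow_add, mul_smul, hy, smul_zero]) _

/-- `M[x^n]` -/
def kerPow (x : A) (M : Type u) [AddCommGroup M] [Module A M] : ℕ →o Submodule A M where
  toFun j := LinearMap.ker (x ^ j • LinearMap.id : M →ₗ[A] M)
  monotone' j j' h := fun y hy => by
    obtain ⟨t, rfl⟩ := Nat.exists_eq_add_of_le h
    simp only [LinearMap.mem_ker, LinearMap.smul_apply, LinearMap.id_coe, id_eq] at hy ⊢
    rw [add_comm, pow_add, mul_smul, hy, smul_zero]

/-- `M/x^n M` is built from `n` quotients `M/(xM + M[x^j])` -/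
theorem len_quot_pow (x : A) (l : List A) (M : Type u) [AddCommGroup M] [Module A M] (i : ℤ) (B : ℕ∞)
    (hB : ∀ j, len l (ModuleCat.of A (M ⧸ U x M j)) i ≤ B) :
    ∀ n : ℕ, len l (ModuleCat.of A (M ⧸ LinearMap.range (x ^ n • LinearMap.id : M →ₗ[A] M))) i ≤ n * B := by
  intro n
  induction n with
  | zero =>
    haveI : Subsingleton (ModuleCat.of A (M ⧸ LinearMap.range (x ^ 0 • LinearMap.id : M →ₗ[A] M))) :=
      Submodule.Quotient.subsingleton_iff.mpr (by rw [pow_zero, one_smul, LinearMap.range_id])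
    rw [len_of_subsingleton, Nat.cast_zero, zero_mul]
  | succ n ih =>
    let a : (M ⧸ U x M n) →ₗ[A] M ⧸ LinearMap.range (x ^ (n + 1) • LinearMap.id : M →ₗ[A] M) :=
      Submodule.liftQ _ ((Submodule.mkQ _).comp (x ^ n • LinearMap.id)) (sup_le
        (by
          rintro _ ⟨y, rfl⟩
          refine (Submodule.Quotient.mk_eq_zero _).2 ⟨y, ?_⟩
          simp only [LinearMap.smul_apply, LinearMap.id_coe, id_eq, smul_smul]
          congr 1
          ring)
        (fun y hy => by
          simp only [LinearMap.mem_ker, LinearMap.smul_apply, LinearMap.id_coe, id_eq, LinearMap.comp_apply] at hy ⊢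
          rw [hy, map_zero]))
    let b : (M ⧸ LinearMap.range (x ^ (n + 1) • LinearMap.id : M →ₗ[A] M)) →ₗ[A]
        M ⧸ LinearMap.range (x ^ n • LinearMap.id : M →ₗ[A] M) :=
      Submodule.factor (by
        rintro _ ⟨y, rfl⟩
        exact ⟨x • y, by simp only [LinearMap.smul_apply, LinearMap.id_coe, id_eq, smul_smul, pow_succ]⟩)
    have ha : Injective a := by
      rw [← LinearMap.ker_eq_bot, eq_bot_iff]
      intro z hz
      obtain ⟨y, rfl⟩ := Submodule.Quotient.mk_surjective _ z
      obtain ⟨w, hw⟩ := (Submodule.Quotient.mk_eq_zero _).1 hz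
      rw [Submodule.mem_bot, Submodule.Quotient.mk_eq_zero]
      refine Submodule.mem_sup.2 ⟨x • w, ⟨w, rfl⟩, y - x • w, ?_, add_sub_cancel _ _⟩
      simp only [LinearMap.mem_ker, LinearMap.smul_apply, LinearMap.id_coe, id_eq] at hw ⊢
      rw [smul_sub, smul_smul, ← pow_succ, hw, sub_self]
    have hab : Exact a b := fun z => by
      obtain ⟨y, rfl⟩ := Submodule.Quotient.mk_surjective _ z
      constructor
      · intro h
        obtain ⟨w, hw⟩ := (Submodule.Quotient.mk_eq_zero _).1 h
        exact ⟨Submodule.Quotient.mk w, congrArg Submodule.Quotient.mk hw⟩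
      · rintro ⟨w, hw⟩
        obtain ⟨w, rfl⟩ := Submodule.Quotient.mk_surjective _ w
        rw [← hw]
        exact (Submodule.Quotient.mk_eq_zero _).2 ⟨w, rfl⟩
    refine (len_exact l hab ha (Submodule.factor_surjective _) i).trans ?_
    push_cast
    rw [add_mul, one_mul, add_comm]
    exact add_le_add ih (hB n)

theorem exists_len_bound [IsLocalRing A] [IsNoetherianRing A] (l : List A) (M : ModuleCat.{u} A)
    [Module.Finite A M] (hM : FL l M) (i : ℤ) : ∃ c : ℕ, len l M i ≤ (c : ℕ∞) := by
  obtain ⟨c, hc⟩ := ENat.ne_top_iff_exists.1 (finLen_iff.1 (H_finLen l M hM i))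
  exact ⟨c, hc.symm.le⟩

/-- powers of the tail on a module killed by a power of the head -/
theorem fl_tail [IsLocalRing A] [IsNoetherianRing A] {k : ℕ} (x : Fin (k + 1) → A) {M N : ModuleCat.{u} A}
    (hM : FL (List.ofFn x) M) (hle : Module.annihilator A M ≤ Module.annihilator A N) (j : ℕ)
    (hj : x 0 ^ j ∈ Module.annihilator A N) : FL (List.ofFn fun t => x (Fin.succ t)) N := by
  refine hM.mono ?_
  rw [Idl_ofFn, Idl_ofFn]
  refine sup_le (Ideal.span_le.2 ?_) ((hle.trans le_sup_right).trans Ideal.le_radical)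
  rintro _ ⟨t, rfl⟩
  cases t using Fin.cases with
  | zero => exact ⟨j, Submodule.mem_sup_right hj⟩
  | succ t => exact Ideal.le_radical (Submodule.mem_sup_left (Ideal.subset_span ⟨t, rfl⟩))

theorem ann_le_quot {M : Type u} [AddCommGroup M] [Module A M] (S : Submodule A M) :
    Module.annihilator A M ≤ Module.annihilator A (M ⧸ S) :=
  S.mkQ.annihilator_le_of_surjective S.mkQ_surjective

theorem ann_le_sub {M : Type u} [AddCommGroup M] [Module A M] (S : Submodule A M) :
    Module.annihilator A M ≤ Module.annihilator A S :=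
  S.subtype.annihilator_le_of_injective S.injective_subtype

theorem mem_ann_U (x : A) (M : Type u) [AddCommGroup M] [Module A M] (j : ℕ) :
    x ^ 1 ∈ Module.annihilator A (M ⧸ U x M j) := Module.mem_annihilator.2 fun y => by
  obtain ⟨y, rfl⟩ := Submodule.Quotient.mk_surjective _ y
  rw [pow_one, ← Submodule.Quotient.mk_smul, Submodule.Quotient.mk_eq_zero]
  exact Submodule.mem_sup_left ⟨y, rfl⟩

theorem mem_ann_kerPow (x : A) (M : Type u) [AddCommGroup M] [Module A M] (j : ℕ) :
    x ^ j ∈ Module.annihilator A (kerPow x M j) :=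
  Module.mem_annihilator.2 fun y => Subtype.ext y.2

variable [IsLocalRing A] [IsNoetherianRing A]

theorem bound_codim : ∀ (k : ℕ) (x : Fin k → A) (M : ModuleCat.{u} A) [Module.Finite A M],
    FL (List.ofFn x) M → ∀ i : ℕ, ∃ c : ℕ, ∀ n : ℕ, 0 < n →
      len (List.ofFn fun j => x j ^ n) M (-(i : ℤ)) ≤ ((c * n ^ (k - i) : ℕ) : ℕ∞) := by
  intro k
  induction k with
  | zero =>
    intro x M _ hM i
    obtain ⟨c, hc⟩ := exists_len_bound _ M hM (-(i : ℤ))
    refine ⟨c, fun n _ => ?_⟩
    rw [Nat.zero_sub, pow_zero, mul_one]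
    rw [List.ofFn_zero] at hc ⊢
    exact hc
  | succ k ih =>
    intro x M _ hM i
    obtain ⟨cQ, hQ⟩ : ∃ c : ℕ, ∀ j n, 0 < n →
        len (List.ofFn fun t => x (Fin.succ t) ^ n) (ModuleCat.of A (M ⧸ U (x 0) M j)) (-(i : ℤ)) ≤
          ((c * n ^ (k - i) : ℕ) : ℕ∞) := by
      refine exists_uniform (U (x 0) M) (fun S n => len (List.ofFn fun t => x (Fin.succ t) ^ n)
        (ModuleCat.of A (M ⧸ S)) (-(i : ℤ))) (fun n => n ^ (k - i)) fun j => ?_
      exact ih _ (ModuleCat.of A (M ⧸ U (x 0) M j)) (fl_tail x hM (ann_le_quot _) 1 (mem_ann_U _ _ j)) i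
    obtain ⟨cS, hS⟩ : ∃ c : ℕ, ∀ n, 0 < n →
        len (List.ofFn fun t => x (Fin.succ t) ^ n) (ModuleCat.of A (kerPow (x 0) M n)) (-(i : ℤ) + 1) ≤
          ((c * n ^ (k + 1 - i) : ℕ) : ℕ∞) := by
      cases i with
      | zero =>
        refine ⟨0, fun n _ => ?_⟩
        rw [len_zero _ _ _ (Or.inl (by simp))]
        exact bot_le
      | succ i =>
        obtain ⟨c, hc⟩ := exists_uniform (kerPow (x 0) M) (fun S n => len (List.ofFn fun t => x (Fin.succ t) ^ n)
          (ModuleCat.of A S) (-((i + 1 : ℕ) : ℤ) + 1)) (fun n => n ^ (k + 1 - (i + 1))) fun j => by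
            obtain ⟨c, hc⟩ := ih _ (ModuleCat.of A (kerPow (x 0) M j))
              (fl_tail x hM (ann_le_sub _) j (mem_ann_kerPow _ _ j)) i
            refine ⟨c, fun n hn => ?_⟩
            rw [show -((i + 1 : ℕ) : ℤ) + 1 = -(i : ℤ) by push_cast; ring, Nat.add_sub_add_right]
            exact hc n hn
        exact ⟨c, fun n hn => hc n n hn⟩
    refine ⟨2 * cQ + 2 * cS, fun n hn => ?_⟩
    rw [List.ofFn_succ]
    refine (len_cons' _ _ _ _).trans ?_
    rw [add_mul, Nat.cast_add]
    refine add_le_add ?_ ?_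
    · by_cases hik : i ≤ k
      · refine (mul_le_mul_right (len_quot_pow (x 0) _ M _ _ (fun j => hQ j n hn) n) 2).trans (le_of_eq ?_)
        rw [show k + 1 - i = (k - i) + 1 by omega]
        push_cast
        ring
      · rw [len_zero _ _ _ (Or.inr (by rw [List.length_ofFn]; omega)), mul_zero]
        exact bot_le
    · refine (mul_le_mul_right (hS n hn) 2).trans (le_of_eq ?_)
      push_cast
      ring

theorem bound_dim : ∀ (k : ℕ) (x : Fin k → A), (∀ j, x j ∈ maximalIdeal A) → ∀ (d : ℕ) (M : ModuleCat.{u} A)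
    [Module.Finite A M], FL (List.ofFn x) M → Module.supportDim A M ≤ (d : WithBot ℕ∞) → ∀ i : ℤ,
    ∃ c : ℕ, ∀ n : ℕ, 0 < n → len (List.ofFn fun j => x j ^ n) M i ≤ ((c * n ^ d : ℕ) : ℕ∞) := by
  intro k
  induction k with
  | zero =>
    intro x _ d M _ hM _ i
    obtain ⟨c, hc⟩ := exists_len_bound _ M hM i
    refine ⟨c, fun n hn => le_trans ?_ (Nat.cast_le.2 (Nat.le_mul_of_pos_right c (pow_pos hn d)))⟩
    rw [List.ofFn_zero] at hc ⊢
    exact hc
  | succ k ih =>
    intro x hx d M hfin hM hd i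
    refine IsNoetherianRing.induction_on_isQuotientEquivQuotientPrime A (M := M) hfin
      (motive := fun N => FL (List.ofFn x) (ModuleCat.of A N) → Module.supportDim A N ≤ (d : WithBot ℕ∞) →
        ∃ c : ℕ, ∀ n : ℕ, 0 < n → len (List.ofFn fun j => x j ^ n) (ModuleCat.of A N) i ≤ ((c * n ^ d : ℕ) : ℕ∞))
      ?_ ?_ ?_ hM hd
    · intro N _ _ _ _ _ _
      haveI : Subsingleton (ModuleCat.of A N) := ‹_›
      exact ⟨0, fun n _ => by rw [len_of_subsingleton]; exact bot_le⟩
    · intro D _ _ _ p e hD hdD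
      by_cases hxP : x 0 ∈ p.1
      · have hxA : x 0 ^ 1 ∈ Module.annihilator A D := by
          rw [pow_one, e.annihilator_eq, Ideal.annihilator_quotient]
          exact hxP
        have hD' := fl_tail x (N := ModuleCat.of A D) hD le_rfl 1 hxA
        obtain ⟨c₁, h₁⟩ := ih _ (fun j => hx (Fin.succ j)) d (ModuleCat.of A D) hD' hdD i
        obtain ⟨c₂, h₂⟩ := ih _ (fun j => hx (Fin.succ j)) d (ModuleCat.of A D) hD' hdD (i + 1)
        refine ⟨c₁ + c₂, fun n hn => ?_⟩
        rw [List.ofFn_succ, add_mul, Nat.cast_add]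
        exact (len_five' _ _ _ _).trans (add_le_add (h₁ n hn) (h₂ n hn))
      · have hreg : IsSMulRegular D (x 0) := by
          intro a b hab
          apply e.injective
          have h1 : x 0 • e a = x 0 • e b := by rw [← map_smul, ← map_smul]; exact congrArg e hab
          rw [Algebra.smul_def, Algebra.smul_def] at h1
          exact mul_left_cancel₀ (fun h => hxP (Ideal.Quotient.eq_zero_iff_mem.1 h)) h1
        have hker : ∀ j, LinearMap.ker (x 0 ^ j • LinearMap.id : D →ₗ[A] D) = ⊥ := fun j => by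
          rw [eq_bot_iff]
          intro y hy
          exact (hreg.pow j) (show x 0 ^ j • y = x 0 ^ j • (0 : D) by rw [smul_zero]; exact hy)
        have hU : ∀ j, U (x 0) D j = LinearMap.range (x 0 • LinearMap.id : D →ₗ[A] D) := fun j => by
          show _ ⊔ LinearMap.ker _ = _
          rw [hker, sup_bot_eq]
        have hQ' : FL (List.ofFn fun t => x (Fin.succ t))
            (ModuleCat.of A (D ⧸ LinearMap.range (x 0 • LinearMap.id : D →ₗ[A] D))) :=
          fl_tail x hD (ann_le_quot _) 1 (by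
            refine Module.mem_annihilator.2 fun y => ?_
            obtain ⟨y, rfl⟩ := Submodule.Quotient.mk_surjective _ y
            rw [pow_one, ← Submodule.Quotient.mk_smul, Submodule.Quotient.mk_eq_zero]
            exact ⟨y, rfl⟩)
        have hdim := Module.supportDim_quotSMulTop_succ_eq_supportDim hreg (hx 0)
        rw [← Module.supportDim_eq_of_equiv (quotEquiv (x 0) D)] at hdim
        cases d with
        | zero =>
          haveI : Subsingleton (ModuleCat.of A (D ⧸ LinearMap.range (x 0 • LinearMap.id : D →ₗ[A] D))) := by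
            show Subsingleton (D ⧸ LinearMap.range (x 0 • LinearMap.id : D →ₗ[A] D))
            rw [← Module.supportDim_eq_bot_iff_subsingleton A]
            rw [← hdim] at hdD
            by_contra hb
            obtain ⟨a, ha⟩ := WithBot.ne_bot_iff_exists.1 hb
            rw [← ha] at hdD
            have h' : a + 1 ≤ ((0 : ℕ) : ℕ∞) := WithBot.coe_le_coe.1 hdD
            simp at h'
          refine ⟨0, fun n hn => ?_⟩
          rw [List.ofFn_succ]
          refine (len_cons' _ _ _ _).trans ?_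
          haveI : Subsingleton (ModuleCat.of A (LinearMap.ker (x 0 ^ n • LinearMap.id : D →ₗ[A] D))) := by
            show Subsingleton (LinearMap.ker (x 0 ^ n • LinearMap.id : D →ₗ[A] D))
            rw [hker]
            infer_instance
          rw [len_of_subsingleton _ (ModuleCat.of A (LinearMap.ker _)), mul_zero, add_zero, zero_mul, Nat.cast_zero]
          refine (mul_le_mul_right (len_quot_pow (x 0) _ D _ 0 (fun j => ?_) n) 2).trans (by simp)
          refine (len_le_of_equiv _ (Submodule.quotEquivOfEq _ _ (hU j).symm) _).trans ?_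
          rw [len_of_subsingleton]
        | succ d =>
          obtain ⟨c, hc⟩ := ih _ (fun j => hx (Fin.succ j)) d _ hQ' (le_of_succ_le (hdim.le.trans hdD)) i
          refine ⟨2 * c, fun n hn => ?_⟩
          rw [List.ofFn_succ]
          refine (len_cons' _ _ _ _).trans ?_
          haveI : Subsingleton (ModuleCat.of A (LinearMap.ker (x 0 ^ n • LinearMap.id : D →ₗ[A] D))) := by
            show Subsingleton (LinearMap.ker (x 0 ^ n • LinearMap.id : D →ₗ[A] D))
            rw [hker]
            infer_instance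
          rw [len_of_subsingleton _ (ModuleCat.of A (LinearMap.ker _)), mul_zero, add_zero]
          refine (mul_le_mul_right (len_quot_pow (x 0) _ D _ ((c * n ^ d : ℕ) : ℕ∞) (fun j => ?_) n) 2).trans (le_of_eq ?_)
          · exact (len_le_of_equiv _ (Submodule.quotEquivOfEq _ _ (hU j).symm) _).trans (hc n hn)
          · push_cast
            ring
    · intro N₁ _ _ _ N₂ _ _ _ N₃ _ _ _ f g hf hg hfg ih₁ ih₃ h₂ hd₂
      rw [supportDim_exact hfg hf hg, max_le_iff] at hd₂
      obtain ⟨h₁, h₃, -⟩ := chi_add' (List.ofFn x) hfg hf hg h₂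
      obtain ⟨c₁, e₁⟩ := ih₁ h₁ hd₂.1
      obtain ⟨c₃, e₃⟩ := ih₃ h₃ hd₂.2
      refine ⟨c₁ + c₃, fun n hn => ?_⟩
      rw [add_mul, Nat.cast_add]
      exact (len_exact _ hfg hf hg i).trans (add_le_add (e₁ n hn) (e₃ n hn))

end

end Groth.Agent.KoszChiLib
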