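import Groth.Agent.KoszChiLib.Basic

/-!
# The Euler characteristic of Koszul homology
-/

set_option autoImplicit false
universe u

open CategoryTheory CategoryTheory.Limits IsLocalRing Function

namespace Groth.Agent.KoszChiLib

noncomputable section

variable {A : Type u} [CommRing A]

/-- `χ(l; M)` -/
def chi (l : List A) (M : ModuleCat.{u} A) : ℤ := ∑ᶠ i : ℤ, sgn i * ell A (H l M i)

theorem ell_H_zero (l : List A) (M : ModuleCat.{u} A) (i : ℤ) (h : i < -(l.length : ℤ) ∨ 0 < i) :
    ell A (H l M i) = 0 := by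
  haveI := H_eq_zero l M i h.symm
  exact ell_eq_zero_of_subsingleton

theorem supp_H (l : List A) (M : ModuleCat.{u} A) : (support fun i => ell A (H l M i)).Finite :=
  finite_support_of_eq_zero (ell_H_zero l M)

theorem supp_H_succ (l : List A) (M : ModuleCat.{u} A) : (support fun i => ell A (H l M (i + 1))).Finite :=
  finite_support_of_eq_zero (a := -(l.length : ℤ) - 1) (b := 0) fun i hi => ell_H_zero l M _ (by omega)

/-- a family of exact five term sequences -/
theorem middle_sum {B C G : ℤ → ModuleCat.{u} A} (f : ∀ i, B i →ₗ[A] C i) (hG : ∀ i, IsFiniteLength A (G i))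
    (n m : ℤ) (hB : ∀ i, (i < n ∨ m < i) → Subsingleton (B i)) (hC : ∀ i, (i < n ∨ m < i) → Subsingleton (C i))
    (h : ∀ i, ∃ (g : C i →ₗ[A] G i) (k : G i →ₗ[A] B (i + 1)), Exact (f i) g ∧ Exact g k ∧ Exact k (f (i + 1))) :
    (∀ i, IndFin (f i)) ∧ (∑ᶠ i, sgn i * ell A (G i)) = ∑ᶠ i, sgn i * ind (f i) := by
  have hfin : ∀ i, IndFin (f i) := by
    intro i
    constructor
    · obtain ⟨j, rfl⟩ : ∃ j, i = j + 1 := ⟨i - 1, by ring⟩
      obtain ⟨g, k, -, -, h3⟩ := h j
      exact finLen_of_equiv (LinearEquiv.ofEq _ _ h3.linearMap_ker_eq.symm) (finLen_range k (hG j))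
    · obtain ⟨g, k, h1, -, -⟩ := h i
      exact finLen_of_equiv ((Submodule.quotEquivOfEq _ _ h1.linearMap_ker_eq.symm) ≪≫ₗ g.quotKerEquivRange).symm
        (finLen_sub _ (hG i))
  refine ⟨hfin, ?_⟩
  have hc : (support fun i => ell A (C i ⧸ LinearMap.range (f i))).Finite :=
    finite_support_of_eq_zero fun i hi => by haveI := hC i hi; exact ell_eq_zero_of_subsingleton
  have hk : (support fun i => ell A (LinearMap.ker (f i))).Finite :=
    finite_support_of_eq_zero fun i hi => by haveI := hB i hi; exact ell_eq_zero_of_subsingleton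
  have hk' : (support fun i => ell A (LinearMap.ker (f (i + 1)))).Finite :=
    finite_support_of_eq_zero (a := n - 1) (b := m) fun i hi => by
      haveI := hB (i + 1) (by omega)
      exact ell_eq_zero_of_subsingleton
  have key : ∀ i, ell A (G i) = ell A (C i ⧸ LinearMap.range (f i)) + ell A (LinearMap.ker (f (i + 1))) := fun i => by
    obtain ⟨g, k, h1, h2, h3⟩ := h i
    exact (ell_middle h1 h2 h3 (hfin i).2 (hfin (i + 1)).1).2
  simp only [key]
  rw [finsum_sgn_add _ _ hc hk', finsum_sgn_succ (fun i => ell A (LinearMap.ker (f i)))]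
  simp only [ind, mul_sub]
  rw [finsum_sub_distrib (hc.subset fun i hi e => hi (mul_eq_zero_of_right _ e))
    (hk.subset fun i hi e => hi (mul_eq_zero_of_right _ e))]
  rw [sub_eq_add_neg]

variable [IsLocalRing A] [IsNoetherianRing A]

theorem FL.mono {l l' : List A} {M M' : ModuleCat.{u} A} (h : FL l M)
    (hle : Idl l ⊔ Module.annihilator A M ≤ (Idl l' ⊔ Module.annihilator A M').radical) : FL l' M' :=
  h.trans (Ideal.radical_le_radical_iff.2 hle)

theorem FL.of_ann {l : List A} {M M' : ModuleCat.{u} A} (h : FL l M)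
    (hle : Module.annihilator A M ≤ Module.annihilator A M') : FL l M' :=
  h.mono ((sup_le_sup_left hle _).trans Ideal.le_radical)

theorem Idl_cons (x : A) (l : List A) : Idl (x :: l) = Ideal.span {x} ⊔ Idl l := by
  rw [Idl, Idl, ← Ideal.span_union]
  congr 1
  ext a
  simp

/-- a module killed by `x` -/
theorem FL.of_killed {x : A} {l : List A} {M M' : ModuleCat.{u} A} (h : FL (x :: l) M)
    (hle : Module.annihilator A M ≤ Module.annihilator A M') (hx : x ∈ Module.annihilator A M') : FL l M' := by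
  refine h.mono (le_trans ?_ Ideal.le_radical)
  rw [Idl_cons]
  exact sup_le (sup_le ((Ideal.span_singleton_le_iff_mem _).2 (Submodule.mem_sup_right hx)) le_sup_left)
    (hle.trans le_sup_right)

theorem chi_cons (x : A) (l : List A) (M : ModuleCat.{u} A) [Module.Finite A M] (hM : FL (x :: l) M) :
    (∀ i, IndFin (x • LinearMap.id : H l M i →ₗ[A] H l M i)) ∧
      chi (x :: l) M = ∑ᶠ i, sgn i * ind (x • LinearMap.id : H l M i →ₗ[A] H l M i) :=
  middle_sum (G := fun i => H (x :: l) M i) (fun i => (x • LinearMap.id : H l M i →ₗ[A] H l M i))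
    (H_finLen _ M hM) (-(l.length : ℤ)) 0 (fun i hi => H_eq_zero l M i hi.symm)
    (fun i hi => H_eq_zero l M i hi.symm) (five x l M)

/-- the head through the coefficients -/
theorem chi_cons' (x : A) (l : List A) (M : ModuleCat.{u} A) [Module.Finite A M] (hM : FL (x :: l) M) :
    chi (x :: l) M = chi l (ModuleCat.of A (M ⧸ LinearMap.range (x • LinearMap.id : M →ₗ[A] M))) -
      chi l (ModuleCat.of A (LinearMap.ker (x • LinearMap.id : M →ₗ[A] M))) := by
  set φ : M →ₗ[A] M := x • LinearMap.id with hφ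
  let S : ModuleCat.{u} A := ModuleCat.of A (LinearMap.ker φ)
  let K : ModuleCat.{u} A := ModuleCat.of A (LinearMap.range φ)
  let Q : ModuleCat.{u} A := ModuleCat.of A (M ⧸ LinearMap.range φ)
  let s : S ⟶ M := ModuleCat.ofHom (LinearMap.ker φ).subtype
  let p : M ⟶ K := ModuleCat.ofHom φ.rangeRestrict
  let v : K ⟶ M := ModuleCat.ofHom (LinearMap.range φ).subtype
  let q : M ⟶ Q := ModuleCat.ofHom (LinearMap.range φ).mkQ
  have w₁ : s ≫ p = 0 := ModuleCat.hom_ext (LinearMap.ext fun y => Subtype.ext y.2)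
  have w₂ : v ≫ q = 0 := ModuleCat.hom_ext (LinearMap.ext fun y => (Submodule.Quotient.mk_eq_zero _).2 y.2)
  have h₁ : (ShortComplex.mk s p w₁).ShortExact :=
    { exact := (ShortComplex.moduleCat_exact_iff _).2 fun y hy => ⟨⟨y, congrArg Subtype.val hy⟩, rfl⟩
      mono_f := (ModuleCat.mono_iff_injective _).2 Subtype.val_injective
      epi_g := (ModuleCat.epi_iff_surjective _).2 φ.surjective_rangeRestrict }
  have h₂ : (ShortComplex.mk v q w₂).ShortExact :=
    { exact := (ShortComplex.moduleCat_exact_iff _).2 fun y hy => ⟨⟨y, (Submodule.Quotient.mk_eq_zero _).1 hy⟩, rfl⟩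
      mono_f := (ModuleCat.mono_iff_injective _).2 Subtype.val_injective
      epi_g := (ModuleCat.epi_iff_surjective _).2 (Submodule.mkQ_surjective _) }
  haveI : Module.Finite A S := inferInstanceAs (Module.Finite A (LinearMap.ker φ))
  haveI : Module.Finite A Q := inferInstanceAs (Module.Finite A (M ⧸ LinearMap.range φ))
  have hS : FL l S := hM.of_killed
    (fun a ha => Module.mem_annihilator.2 fun y => Subtype.ext (Module.mem_annihilator.1 ha y.1))
    (Module.mem_annihilator.2 fun y => Subtype.ext y.2)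
  have hQ : FL l Q := hM.of_killed
    (fun a ha => Module.mem_annihilator.2 fun y => by
      obtain ⟨y, rfl⟩ := Submodule.Quotient.mk_surjective _ y
      exact (congrArg Submodule.Quotient.mk (Module.mem_annihilator.1 ha y)).trans rfl)
    (Module.mem_annihilator.2 fun y => by
      obtain ⟨y, rfl⟩ := Submodule.Quotient.mk_surjective _ y
      exact (Submodule.Quotient.mk_eq_zero _).2 ⟨y, rfl⟩)
  obtain ⟨hv, eQ⟩ := middle_sum (G := fun i => H l Q i) (fun i => Hmap l v i) (H_finLen _ Q hQ)
    (-(l.length : ℤ)) 0 (fun i hi => H_eq_zero l K i hi.symm) (fun i hi => H_eq_zero l M i hi.symm) (fun i => by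
      obtain ⟨δ, e1, e2, e3⟩ := les l v q w₂ h₂ i
      exact ⟨Hmap l q i, δ, e1, e2, e3⟩)
  obtain ⟨hp, eS⟩ := middle_sum (G := fun i => H l S (i + 1)) (fun i => Hmap l p i) (fun i => H_finLen _ S hS _)
    (-(l.length : ℤ)) 0 (fun i hi => H_eq_zero l M i hi.symm) (fun i hi => H_eq_zero l K i hi.symm) (fun i => by
      obtain ⟨δ, -, e2, e3⟩ := les l s p w₁ h₁ i
      obtain ⟨δ', e1', -, -⟩ := les l s p w₁ h₁ (i + 1)
      exact ⟨δ, Hmap l s (i + 1), e2, e3, e1'⟩)
  rw [finsum_sgn_succ (fun i => ell A (H l S i))] at eS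
  obtain ⟨-, e⟩ := chi_cons x l M hM
  have key : ∀ i, ind (x • LinearMap.id : H l M i →ₗ[A] H l M i) = ind (Hmap l v i) + ind (Hmap l p i) := fun i => by
    rw [← (ind_comp _ _ (hp i) (hv i)).2, ← Hmap_comp, ← Hmap_smul_id]
    rfl
  have supp : ∀ {N N' : ModuleCat.{u} A} (g : N ⟶ N'), (support fun i => ind (Hmap l g i)).Finite := fun {N N'} g =>
    finite_support_of_eq_zero (a := -(l.length : ℤ)) (b := 0) fun i hi => by
      haveI := H_eq_zero l N i hi.symm
      haveI := H_eq_zero l N' i hi.symm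
      rw [ind, ell_eq_zero_of_subsingleton, ell_eq_zero_of_subsingleton, sub_zero]
  rw [e]
  simp only [key]
  rw [finsum_sgn_add _ _ (supp v) (supp p), ← eQ, ← eS, sub_eq_add_neg]
  rfl

/-- multiplicativity in the head -/
theorem chi_mul (x y : A) (l : List A) (M : ModuleCat.{u} A) [Module.Finite A M] (hx : FL (x :: l) M)
    (hy : FL (y :: l) M) : chi ((x * y) :: l) M = chi (x :: l) M + chi (y :: l) M := by
  have hxy : FL ((x * y) :: l) M := by
    intro a ha
    obtain ⟨n, hn⟩ := hx ha
    obtain ⟨m, hm⟩ := hy ha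
    refine ⟨n + m, ?_⟩
    rw [pow_add]
    rw [Idl_cons, sup_assoc] at hn hm ⊢
    obtain ⟨u, hu, s, hs, e₁⟩ := Submodule.mem_sup.1 hn
    obtain ⟨v, hv, t, ht, e₂⟩ := Submodule.mem_sup.1 hm
    obtain ⟨u, rfl⟩ := Ideal.mem_span_singleton.1 hu
    obtain ⟨v, rfl⟩ := Ideal.mem_span_singleton.1 hv
    refine Submodule.mem_sup.2 ⟨x * y * (u * v), Ideal.mul_mem_right _ _ (Ideal.mem_span_singleton_self _),
      s * (a ^ m) + x * u * t, Ideal.add_mem _ (Ideal.mul_mem_right _ _ hs) (Ideal.mul_mem_left _ _ ht), ?_⟩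
    rw [← e₁, ← e₂]
    ring
  obtain ⟨h1, e1⟩ := chi_cons x l M hx
  obtain ⟨h2, e2⟩ := chi_cons y l M hy
  obtain ⟨-, e3⟩ := chi_cons (x * y) l M hxy
  have key : ∀ i, ind ((x * y) • LinearMap.id : H l M i →ₗ[A] H l M i) =
      ind (x • LinearMap.id : H l M i →ₗ[A] H l M i) + ind (y • LinearMap.id : H l M i →ₗ[A] H l M i) := fun i => by
    rw [← (ind_comp _ _ (h2 i) (h1 i)).2]
    congr 1
    ext z
    simp [mul_smul]
  have supp : ∀ z : A, (support fun i => ind (z • LinearMap.id : H l M i →ₗ[A] H l M i)).Finite := fun z =>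
    finite_support_of_eq_zero (a := -(l.length : ℤ)) (b := 0) fun i hi => by
      haveI := H_eq_zero l M i hi.symm
      rw [ind, ell_eq_zero_of_subsingleton, ell_eq_zero_of_subsingleton, sub_zero]
  rw [e1, e2, e3]
  simp only [key]
  exact finsum_sgn_add _ _ (supp x) (supp y)

theorem chi_pow (x : A) (l : List A) (M : ModuleCat.{u} A) [Module.Finite A M] (h : FL (x :: l) M) :
    ∀ n : ℕ, chi ((x ^ n) :: l) M = n * chi (x :: l) M := by
  have hone : FL ((1 : A) :: l) M := fun a _ => ⟨0, Submodule.mem_sup_left (Ideal.subset_span (by simp))⟩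
  intro n
  induction n with
  | zero =>
    rw [pow_zero, (chi_cons 1 l M hone).2, Nat.cast_zero, zero_mul]
    refine finsum_eq_zero_of_forall_eq_zero fun i => ?_
    rw [one_smul, ind_id, mul_zero]
  | succ n ih =>
    have hn : FL ((x ^ n) :: l) M := h.mono (by
      rw [Idl_cons, Idl_cons, sup_assoc, sup_assoc]
      refine sup_le ((Ideal.span_singleton_le_iff_mem _).2 ⟨n, ?_⟩) (le_sup_right.trans Ideal.le_radical)
      exact Submodule.mem_sup_left (Ideal.mem_span_singleton_self _))
    rw [pow_succ, chi_mul _ _ _ _ hn h, ih]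
    push_cast
    ring

/-- additivity in short exact sequences -/
theorem chi_add (l : List A) {M N P : ModuleCat.{u} A} [Module.Finite A M] [Module.Finite A N] [Module.Finite A P]
    (a : M ⟶ N) (b : N ⟶ P) (w : a ≫ b = 0) (hS : (ShortComplex.mk a b w).ShortExact)
    (hM : FL l M) (hN : FL l N) (hP : FL l P) : chi l N = chi l M + chi l P := by
  choose δ h1 h2 h3 using les l a b w hS
  let ra : ℤ → ℤ := fun i => ell A (LinearMap.range (Hmap l a i))
  let rb : ℤ → ℤ := fun i => ell A (LinearMap.range (Hmap l b i))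
  let rd : ℤ → ℤ := fun i => ell A (LinearMap.range (δ i))
  have eN : ∀ i, ell A (H l N i) = ra i + rb i := fun i => by
    rw [ell_ker_range (Hmap l b i) (H_finLen l N hN i), ell_ker_eq (h1 i)]
  have eP : ∀ i, ell A (H l P i) = rb i + rd i := fun i => by
    rw [ell_ker_range (δ i) (H_finLen l P hP i), ell_ker_eq (h2 i)]
  have eM : ∀ i, ell A (H l M (i + 1)) = rd i + ra (i + 1) := fun i => by
    rw [ell_ker_range (Hmap l a (i + 1)) (H_finLen l M hM _), ell_ker_eq (h3 i)]
  have hlow : ∀ {X Y : ModuleCat.{u} A} (f : X →ₗ[A] Y), Subsingleton Y → ell A (LinearMap.range f) = 0 :=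
    fun f _ => ell_eq_zero_of_subsingleton
  have sa : (support ra).Finite := finite_support_of_eq_zero fun i hi => hlow _ (H_eq_zero l N i (Or.symm hi))
  have sb : (support rb).Finite := finite_support_of_eq_zero fun i hi => hlow _ (H_eq_zero l P i (Or.symm hi))
  have sd : (support rd).Finite := finite_support_of_eq_zero (a := -(l.length : ℤ) - 1) (b := 0) fun i hi =>
    hlow _ (H_eq_zero l M (i + 1) (by omega))
  have sa' : (support fun i => ra (i + 1)).Finite :=
    finite_support_of_eq_zero (a := -(l.length : ℤ) - 1) (b := 0) fun i hi => hlow _ (H_eq_zero l N (i + 1) (by omega))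
  have cM := finsum_sgn_succ (fun i => ell A (H l M i))
  simp only [eM] at cM
  rw [finsum_sgn_add _ _ sd sa', finsum_sgn_succ ra] at cM
  simp only [chi, eN, eP]
  rw [finsum_sgn_add _ _ sa sb, finsum_sgn_add _ _ sb sd]
  linarith

theorem chi_of_iso (l : List A) {M N : ModuleCat.{u} A} (e : M ≅ N) : chi l M = chi l N :=
  finsum_congr fun i => congrArg (sgn i * ·) (ell_of_equiv
    ((HomologicalComplex.homologyFunctor (ModuleCat.{u} A) (ComplexShape.up ℤ) i).mapIso
      ({ hom := Tmap l e.hom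
         inv := Tmap l e.inv
         hom_inv_id := by rw [← Tmap_comp, e.hom_inv_id]; ext j : 1; exact MonoidalCategory.whiskerLeft_id _ _
         inv_hom_id := by rw [← Tmap_comp, e.inv_hom_id]; ext j : 1; exact MonoidalCategory.whiskerLeft_id _ _ } :
        T l M ≅ T l N)).toLinearEquiv)

theorem chi_of_subsingleton (l : List A) (M : ModuleCat.{u} A) [Subsingleton M] : chi l M = 0 := by
  refine finsum_eq_zero_of_forall_eq_zero fun i => ?_
  haveI : Subsingleton (H l M i) := by
    haveI : Subsingleton (ModuleCat.of A M) := ‹_›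
    have h0 : (0 : A) • 𝟙 M = 𝟙 M := ModuleCat.hom_ext (LinearMap.ext fun y => Subsingleton.elim (α := M) _ _)
    have h1 := Hmap_smul_id l M 0 i
    have h2 := Hmap_smul_id l M 1 i
    rw [h0] at h1
    rw [one_smul] at h2
    refine subsingleton_of_forall_eq 0 fun y => ?_
    have := LinearMap.congr_fun (h2.symm.trans h1) y
    simpa using this
  rw [ell_eq_zero_of_subsingleton, mul_zero]

theorem chi_nil (M : ModuleCat.{u} A) : chi ([] : List A) M = ell A M := by
  rw [chi, finsum_eq_single _ (0 : ℤ) fun i hi => by rw [ell_H_zero [] M i (by simp; omega), mul_zero]]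
  rw [ell_of_equiv (H_nil M), show sgn 0 = 1 by simp [sgn], one_mul]

end

end Groth.Agent.KoszChiLib
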